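import Cfsg.Agent.H752.TF.CoBase

set_option autoImplicit false
set_option linter.unusedVariables false
set_option linter.unusedSimpArgs false

namespace Cfsg.Agent.H752.TF

open Cfsg.Agent.Octagon.Pkg Cfsg.Agent.H745.TF

universe u v

variable {K : Type u} [Field K] {σ : K →+* K} {m : ℕ} (hK : HypK σ m)
variable {U : Type v} [Group U] (T : TF σ U)

include hK

/-! ### `E4` -/

theorem mem_E4 {g : U} : g ∈ T.E4 ↔ (co T g).a1 = 0 ∧ (co T g).a2 = 0 ∧ (co T g).b2 = 0 ∧ (co T g).a4 = 0 ∧ (co T g).a6 = 0 ∧ (co T g).a7 = 0 ∧ (co T g).a8 = 0 ∧ (co T g).b8 = 0 := by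
  obtain ⟨S, hS⟩ := exists_sub hK T (fun c => c.a1 = 0 ∧ c.a2 = 0 ∧ c.b2 = 0 ∧ c.a4 = 0 ∧ c.a6 = 0 ∧ c.a7 = 0 ∧ c.a8 = 0 ∧ c.b8 = 0) (⟨rfl, rfl, rfl, rfl, rfl, rfl, rfl, rfl⟩) (by
    rintro c d ⟨hc0, hc1, hc2, hc3, hc4, hc5, hc6, hc7⟩ ⟨hd0, hd1, hd2, hd3, hd4, hd5, hd6, hd7⟩
    refine ⟨?_, ?_, ?_, ?_, ?_, ?_, ?_, ?_⟩
    · rw [mul_a1]
      simp only [hc0, hc1, hc2, hc3, hc4, hc5, hc6, hc7, hd0, hd1, hd2, hd3, hd4, hd5, hd6, hd7, zero_mul, mul_zero, add_zero, zero_add, map_zero, pow_zero, ne_eq, OfNat.ofNat_ne_zero, not_false_eq_true, zero_pow]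
    · rw [mul_a2]
      simp only [hc0, hc1, hc2, hc3, hc4, hc5, hc6, hc7, hd0, hd1, hd2, hd3, hd4, hd5, hd6, hd7, zero_mul, mul_zero, add_zero, zero_add, map_zero, pow_zero, ne_eq, OfNat.ofNat_ne_zero, not_false_eq_true, zero_pow]
    · rw [mul_b2]
      simp only [hc0, hc1, hc2, hc3, hc4, hc5, hc6, hc7, hd0, hd1, hd2, hd3, hd4, hd5, hd6, hd7, zero_mul, mul_zero, add_zero, zero_add, map_zero, pow_zero, ne_eq, OfNat.ofNat_ne_zero, not_false_eq_true, zero_pow]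
    · rw [mul_a4]
      simp only [hc0, hc1, hc2, hc3, hc4, hc5, hc6, hc7, hd0, hd1, hd2, hd3, hd4, hd5, hd6, hd7, zero_mul, mul_zero, add_zero, zero_add, map_zero, pow_zero, ne_eq, OfNat.ofNat_ne_zero, not_false_eq_true, zero_pow]
    · rw [mul_a6]
      simp only [hc0, hc1, hc2, hc3, hc4, hc5, hc6, hc7, hd0, hd1, hd2, hd3, hd4, hd5, hd6, hd7, zero_mul, mul_zero, add_zero, zero_add, map_zero, pow_zero, ne_eq, OfNat.ofNat_ne_zero, not_false_eq_true, zero_pow]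
    · rw [mul_a7]
      simp only [hc0, hc1, hc2, hc3, hc4, hc5, hc6, hc7, hd0, hd1, hd2, hd3, hd4, hd5, hd6, hd7, zero_mul, mul_zero, add_zero, zero_add, map_zero, pow_zero, ne_eq, OfNat.ofNat_ne_zero, not_false_eq_true, zero_pow]
    · rw [mul_a8]
      simp only [hc0, hc1, hc2, hc3, hc4, hc5, hc6, hc7, hd0, hd1, hd2, hd3, hd4, hd5, hd6, hd7, zero_mul, mul_zero, add_zero, zero_add, map_zero, pow_zero, ne_eq, OfNat.ofNat_ne_zero, not_false_eq_true, zero_pow]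
    · rw [mul_b8]
      simp only [hc0, hc1, hc2, hc3, hc4, hc5, hc6, hc7, hd0, hd1, hd2, hd3, hd4, hd5, hd6, hd7, zero_mul, mul_zero, add_zero, zero_add, map_zero, pow_zero, ne_eq, OfNat.ofNat_ne_zero, not_false_eq_true, zero_pow])
  rw [← hS]
  constructor
  · intro h
    have hle : T.E4 ≤ S := by
      simp only [TF.E4, sup_le_iff, Subgroup.closure_le, TF.Z4, TF.Z6, TF.X5, TF.X3]
      refine ⟨⟨⟨?_, ?_⟩, ?_⟩, ?_⟩
      · rintro _ ⟨u, rfl⟩
        exact (hS _).2 (by rw [co_x4]; exact ⟨rfl, rfl, rfl, rfl, rfl, rfl, rfl, rfl⟩)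
      · rintro _ ⟨u, rfl⟩
        exact (hS _).2 (by rw [co_x6]; exact ⟨rfl, rfl, rfl, rfl, rfl, rfl, rfl, rfl⟩)
      · rintro _ ⟨t, rfl⟩
        exact (hS _).2 (by rw [co_x5]; exact ⟨rfl, rfl, rfl, rfl, rfl, rfl, rfl, rfl⟩)
      · rintro _ ⟨t, rfl⟩
        exact (hS _).2 (by rw [co_x3]; exact ⟨rfl, rfl, rfl, rfl, rfl, rfl, rfl, rfl⟩)
    exact hle h
  · intro h
    rw [hS] at h
    rw [← el_co T g]
    generalize co T g = c at h ⊢
    obtain ⟨z0, z1, z2, z3, z4, z5, z6, z7⟩ := h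
    simp only [TF.el, z0, z1, z2, z3, z4, z5, z6, z7, H659.TF.x1_zero T.rel, H659.TF.x2_zero T.rel, H659.TF.x7_zero T.rel, H659.TF.x8_zero T.rel, one_mul, mul_one]
    exact mul_mem (mul_mem (mul_mem (X3_le_E4 T (x3_mem T _)) (Z4_le_E4 T (x4_mem_Z T _))) (X5_le_E4 T (x5_mem T _))) (Z6_le_E4 T (x6_mem_Z T _))

theorem el_mem_E4 {c : Cd K} : T.el c ∈ T.E4 ↔ c.a1 = 0 ∧ c.a2 = 0 ∧ c.b2 = 0 ∧ c.a4 = 0 ∧ c.a6 = 0 ∧ c.a7 = 0 ∧ c.a8 = 0 ∧ c.b8 = 0 := by rw [mem_E4 hK, co_el]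

theorem E4_iff {g : U} : g ∈ T.E4 ↔ ∃ t3 u4 t5 u6, g = T.x3 t3 * T.x4 0 u4 * T.x5 t5 * T.x6 0 u6 := by
  constructor
  · intro h
    rw [mem_E4 hK] at h
    have e := el_co T g
    generalize co T g = c at h e
    obtain ⟨z0, z1, z2, z3, z4, z5, z6, z7⟩ := h
    simp only [TF.el, z0, z1, z2, z3, z4, z5, z6, z7, H659.TF.x1_zero T.rel, H659.TF.x2_zero T.rel, H659.TF.x7_zero T.rel, H659.TF.x8_zero T.rel, one_mul, mul_one] at e
    exact ⟨_, _, _, _, e.symm⟩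
  · rintro ⟨t3, u4, t5, u6, rfl⟩
    exact mul_mem (mul_mem (mul_mem (X3_le_E4 T (x3_mem T _)) (Z4_le_E4 T (x4_mem_Z T _))) (X5_le_E4 T (x5_mem T _))) (Z6_le_E4 T (x6_mem_Z T _))

theorem card_E4 : Nat.card T.E4 = (2 ^ (2 * m + 1)) ^ 4 := by
  refine card_of_mask hK T ![false, false, false, true, false, true, true, false, true, false, false, false] (by rfl) T.E4 fun g => ?_
  rw [mem_E4 hK]
  constructor
  · rintro ⟨z0, z1, z2, z3, z4, z5, z6, z7⟩ i hi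
    fin_cases i <;> first | exact z0 | exact z1 | exact z2 | exact z3 | exact z4 | exact z5 | exact z6 | exact z7 | exact absurd hi (by decide)
  · intro h
    exact ⟨h 0 rfl, h 1 rfl, h 2 rfl, h 4 rfl, h 7 rfl, h 9 rfl, h 10 rfl, h 11 rfl⟩

theorem E4_normal : T.E4.Normal := by
  refine ⟨fun g hg x => ?_⟩
  have e : co T (x * g * x⁻¹ * x) = co T (x * g) := by rw [inv_mul_cancel_right]
  rw [co_mul hK T _ x, co_mul hK T x g] at e
  rw [mem_E4 hK] at hg ⊢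
  generalize co T (x * g * x⁻¹) = h at e ⊢
  generalize co T x = y at e
  generalize co T g = c at e hg
  obtain ⟨z0, z1, z2, z3, z4, z5, z6, z7⟩ := hg
  have fa1 := congrArg Cd.a1 e
  rw [mul_a1, mul_a1] at fa1
  simp only [z0, z1, z2, z3, z4, z5, z6, z7, zero_mul, mul_zero, add_zero, zero_add, map_zero, pow_zero, ne_eq, OfNat.ofNat_ne_zero, not_false_eq_true, zero_pow, add_eq_right, add_eq_left, left_eq_add, right_eq_add] at fa1
  have fa8 := congrArg Cd.a8 e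
  rw [mul_a8, mul_a8] at fa8
  simp only [z0, z1, z2, z3, z4, z5, z6, z7, fa1, zero_mul, mul_zero, add_zero, zero_add, map_zero, pow_zero, ne_eq, OfNat.ofNat_ne_zero, not_false_eq_true, zero_pow, add_eq_right, add_eq_left, left_eq_add, right_eq_add] at fa8
  have fb8 := congrArg Cd.b8 e
  rw [mul_b8, mul_b8] at fb8
  simp only [z0, z1, z2, z3, z4, z5, z6, z7, fa1, fa8, zero_mul, mul_zero, add_zero, zero_add, map_zero, pow_zero, ne_eq, OfNat.ofNat_ne_zero, not_false_eq_true, zero_pow, add_eq_right, add_eq_left, left_eq_add, right_eq_add] at fb8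
  have fa2 := congrArg Cd.a2 e
  rw [mul_a2, mul_a2] at fa2
  simp only [z0, z1, z2, z3, z4, z5, z6, z7, fa1, fa8, fb8, zero_mul, mul_zero, add_zero, zero_add, map_zero, pow_zero, ne_eq, OfNat.ofNat_ne_zero, not_false_eq_true, zero_pow, add_eq_right, add_eq_left, left_eq_add, right_eq_add] at fa2
  have fa4 := congrArg Cd.a4 e
  rw [mul_a4, mul_a4] at fa4
  simp only [z0, z1, z2, z3, z4, z5, z6, z7, fa1, fa8, fb8, fa2, zero_mul, mul_zero, add_zero, zero_add, map_zero, pow_zero, ne_eq, OfNat.ofNat_ne_zero, not_false_eq_true, zero_pow, add_eq_right, add_eq_left, left_eq_add, right_eq_add] at fa4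
  have fa6 := congrArg Cd.a6 e
  rw [mul_a6, mul_a6] at fa6
  simp only [z0, z1, z2, z3, z4, z5, z6, z7, fa1, fa8, fb8, fa2, fa4, zero_mul, mul_zero, add_zero, zero_add, map_zero, pow_zero, ne_eq, OfNat.ofNat_ne_zero, not_false_eq_true, zero_pow, add_eq_right, add_eq_left, left_eq_add, right_eq_add] at fa6
  have fa7 := congrArg Cd.a7 e
  rw [mul_a7, mul_a7] at fa7
  simp only [z0, z1, z2, z3, z4, z5, z6, z7, fa1, fa8, fb8, fa2, fa4, fa6, zero_mul, mul_zero, add_zero, zero_add, map_zero, pow_zero, ne_eq, OfNat.ofNat_ne_zero, not_false_eq_true, zero_pow, add_eq_right, add_eq_left, left_eq_add, right_eq_add] at fa7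
  have fb2 := congrArg Cd.b2 e
  rw [mul_b2, mul_b2] at fb2
  simp only [z0, z1, z2, z3, z4, z5, z6, z7, fa1, fa8, fb8, fa2, fa4, fa6, fa7, zero_mul, mul_zero, add_zero, zero_add, map_zero, pow_zero, ne_eq, OfNat.ofNat_ne_zero, not_false_eq_true, zero_pow, add_eq_right, add_eq_left, left_eq_add, right_eq_add] at fb2
  exact ⟨fa1, fa2, fb2, fa4, fa6, fa7, fa8, fb8⟩

/-! ### `E` -/

theorem mem_E {g : U} : g ∈ T.E ↔ (co T g).a1 = 0 ∧ (co T g).a2 = 0 ∧ (co T g).a4 = 0 ∧ (co T g).a6 = 0 ∧ (co T g).a7 = 0 ∧ (co T g).a8 = 0 ∧ (co T g).b8 = 0 := by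
  obtain ⟨S, hS⟩ := exists_sub hK T (fun c => c.a1 = 0 ∧ c.a2 = 0 ∧ c.a4 = 0 ∧ c.a6 = 0 ∧ c.a7 = 0 ∧ c.a8 = 0 ∧ c.b8 = 0) (⟨rfl, rfl, rfl, rfl, rfl, rfl, rfl⟩) (by
    rintro c d ⟨hc0, hc1, hc2, hc3, hc4, hc5, hc6⟩ ⟨hd0, hd1, hd2, hd3, hd4, hd5, hd6⟩
    refine ⟨?_, ?_, ?_, ?_, ?_, ?_, ?_⟩
    · rw [mul_a1]
      simp only [hc0, hc1, hc2, hc3, hc4, hc5, hc6, hd0, hd1, hd2, hd3, hd4, hd5, hd6, zero_mul, mul_zero, add_zero, zero_add, map_zero, pow_zero, ne_eq, OfNat.ofNat_ne_zero, not_false_eq_true, zero_pow]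
    · rw [mul_a2]
      simp only [hc0, hc1, hc2, hc3, hc4, hc5, hc6, hd0, hd1, hd2, hd3, hd4, hd5, hd6, zero_mul, mul_zero, add_zero, zero_add, map_zero, pow_zero, ne_eq, OfNat.ofNat_ne_zero, not_false_eq_true, zero_pow]
    · rw [mul_a4]
      simp only [hc0, hc1, hc2, hc3, hc4, hc5, hc6, hd0, hd1, hd2, hd3, hd4, hd5, hd6, zero_mul, mul_zero, add_zero, zero_add, map_zero, pow_zero, ne_eq, OfNat.ofNat_ne_zero, not_false_eq_true, zero_pow]
    · rw [mul_a6]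
      simp only [hc0, hc1, hc2, hc3, hc4, hc5, hc6, hd0, hd1, hd2, hd3, hd4, hd5, hd6, zero_mul, mul_zero, add_zero, zero_add, map_zero, pow_zero, ne_eq, OfNat.ofNat_ne_zero, not_false_eq_true, zero_pow]
    · rw [mul_a7]
      simp only [hc0, hc1, hc2, hc3, hc4, hc5, hc6, hd0, hd1, hd2, hd3, hd4, hd5, hd6, zero_mul, mul_zero, add_zero, zero_add, map_zero, pow_zero, ne_eq, OfNat.ofNat_ne_zero, not_false_eq_true, zero_pow]
    · rw [mul_a8]
      simp only [hc0, hc1, hc2, hc3, hc4, hc5, hc6, hd0, hd1, hd2, hd3, hd4, hd5, hd6, zero_mul, mul_zero, add_zero, zero_add, map_zero, pow_zero, ne_eq, OfNat.ofNat_ne_zero, not_false_eq_true, zero_pow]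
    · rw [mul_b8]
      simp only [hc0, hc1, hc2, hc3, hc4, hc5, hc6, hd0, hd1, hd2, hd3, hd4, hd5, hd6, zero_mul, mul_zero, add_zero, zero_add, map_zero, pow_zero, ne_eq, OfNat.ofNat_ne_zero, not_false_eq_true, zero_pow])
  rw [← hS]
  constructor
  · intro h
    have hle : T.E ≤ S := by
      simp only [TF.E, sup_le_iff, Subgroup.closure_le, TF.Z4, TF.Z6, TF.X5, TF.X3, TF.Z2]
      refine ⟨⟨⟨⟨?_, ?_⟩, ?_⟩, ?_⟩, ?_⟩
      · rintro _ ⟨u, rfl⟩
        exact (hS _).2 (by rw [co_x4]; exact ⟨rfl, rfl, rfl, rfl, rfl, rfl, rfl⟩)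
      · rintro _ ⟨u, rfl⟩
        exact (hS _).2 (by rw [co_x6]; exact ⟨rfl, rfl, rfl, rfl, rfl, rfl, rfl⟩)
      · rintro _ ⟨t, rfl⟩
        exact (hS _).2 (by rw [co_x5]; exact ⟨rfl, rfl, rfl, rfl, rfl, rfl, rfl⟩)
      · rintro _ ⟨t, rfl⟩
        exact (hS _).2 (by rw [co_x3]; exact ⟨rfl, rfl, rfl, rfl, rfl, rfl, rfl⟩)
      · rintro _ ⟨u, rfl⟩
        exact (hS _).2 (by rw [co_x2]; exact ⟨rfl, rfl, rfl, rfl, rfl, rfl, rfl⟩)
    exact hle h
  · intro h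
    rw [hS] at h
    rw [← el_co T g]
    generalize co T g = c at h ⊢
    obtain ⟨z0, z1, z2, z3, z4, z5, z6⟩ := h
    simp only [TF.el, z0, z1, z2, z3, z4, z5, z6, H659.TF.x1_zero T.rel, H659.TF.x7_zero T.rel, H659.TF.x8_zero T.rel, one_mul, mul_one]
    exact mul_mem (mul_mem (mul_mem (mul_mem (Z2_le_E T (x2_mem_Z T _)) (X3_le_E T (x3_mem T _))) (Z4_le_E T (x4_mem_Z T _))) (X5_le_E T (x5_mem T _))) (Z6_le_E T (x6_mem_Z T _))

theorem el_mem_E {c : Cd K} : T.el c ∈ T.E ↔ c.a1 = 0 ∧ c.a2 = 0 ∧ c.a4 = 0 ∧ c.a6 = 0 ∧ c.a7 = 0 ∧ c.a8 = 0 ∧ c.b8 = 0 := by rw [mem_E hK, co_el]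

theorem E_iff {g : U} : g ∈ T.E ↔ ∃ u2 t3 u4 t5 u6, g = T.x2 0 u2 * T.x3 t3 * T.x4 0 u4 * T.x5 t5 * T.x6 0 u6 := by
  constructor
  · intro h
    rw [mem_E hK] at h
    have e := el_co T g
    generalize co T g = c at h e
    obtain ⟨z0, z1, z2, z3, z4, z5, z6⟩ := h
    simp only [TF.el, z0, z1, z2, z3, z4, z5, z6, H659.TF.x1_zero T.rel, H659.TF.x7_zero T.rel, H659.TF.x8_zero T.rel, one_mul, mul_one] at e
    exact ⟨_, _, _, _, _, e.symm⟩
  · rintro ⟨u2, t3, u4, t5, u6, rfl⟩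
    exact mul_mem (mul_mem (mul_mem (mul_mem (Z2_le_E T (x2_mem_Z T _)) (X3_le_E T (x3_mem T _))) (Z4_le_E T (x4_mem_Z T _))) (X5_le_E T (x5_mem T _))) (Z6_le_E T (x6_mem_Z T _))

theorem card_E : Nat.card T.E = (2 ^ (2 * m + 1)) ^ 5 := by
  refine card_of_mask hK T ![false, false, true, true, false, true, true, false, true, false, false, false] (by rfl) T.E fun g => ?_
  rw [mem_E hK]
  constructor
  · rintro ⟨z0, z1, z2, z3, z4, z5, z6⟩ i hi
    fin_cases i <;> first | exact z0 | exact z1 | exact z2 | exact z3 | exact z4 | exact z5 | exact z6 | exact absurd hi (by decide)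
  · intro h
    exact ⟨h 0 rfl, h 1 rfl, h 4 rfl, h 7 rfl, h 9 rfl, h 10 rfl, h 11 rfl⟩

theorem E_normal : T.E.Normal := by
  refine ⟨fun g hg x => ?_⟩
  have e : co T (x * g * x⁻¹ * x) = co T (x * g) := by rw [inv_mul_cancel_right]
  rw [co_mul hK T _ x, co_mul hK T x g] at e
  rw [mem_E hK] at hg ⊢
  generalize co T (x * g * x⁻¹) = h at e ⊢
  generalize co T x = y at e
  generalize co T g = c at e hg
  obtain ⟨z0, z1, z2, z3, z4, z5, z6⟩ := hg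
  have fa1 := congrArg Cd.a1 e
  rw [mul_a1, mul_a1] at fa1
  simp only [z0, z1, z2, z3, z4, z5, z6, zero_mul, mul_zero, add_zero, zero_add, map_zero, pow_zero, ne_eq, OfNat.ofNat_ne_zero, not_false_eq_true, zero_pow, add_eq_right, add_eq_left, left_eq_add, right_eq_add] at fa1
  have fa8 := congrArg Cd.a8 e
  rw [mul_a8, mul_a8] at fa8
  simp only [z0, z1, z2, z3, z4, z5, z6, fa1, zero_mul, mul_zero, add_zero, zero_add, map_zero, pow_zero, ne_eq, OfNat.ofNat_ne_zero, not_false_eq_true, zero_pow, add_eq_right, add_eq_left, left_eq_add, right_eq_add] at fa8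
  have fb8 := congrArg Cd.b8 e
  rw [mul_b8, mul_b8] at fb8
  simp only [z0, z1, z2, z3, z4, z5, z6, fa1, fa8, zero_mul, mul_zero, add_zero, zero_add, map_zero, pow_zero, ne_eq, OfNat.ofNat_ne_zero, not_false_eq_true, zero_pow, add_eq_right, add_eq_left, left_eq_add, right_eq_add] at fb8
  have fa2 := congrArg Cd.a2 e
  rw [mul_a2, mul_a2] at fa2
  simp only [z0, z1, z2, z3, z4, z5, z6, fa1, fa8, fb8, zero_mul, mul_zero, add_zero, zero_add, map_zero, pow_zero, ne_eq, OfNat.ofNat_ne_zero, not_false_eq_true, zero_pow, add_eq_right, add_eq_left, left_eq_add, right_eq_add] at fa2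
  have fa4 := congrArg Cd.a4 e
  rw [mul_a4, mul_a4] at fa4
  simp only [z0, z1, z2, z3, z4, z5, z6, fa1, fa8, fb8, fa2, zero_mul, mul_zero, add_zero, zero_add, map_zero, pow_zero, ne_eq, OfNat.ofNat_ne_zero, not_false_eq_true, zero_pow, add_eq_right, add_eq_left, left_eq_add, right_eq_add] at fa4
  have fa6 := congrArg Cd.a6 e
  rw [mul_a6, mul_a6] at fa6
  simp only [z0, z1, z2, z3, z4, z5, z6, fa1, fa8, fb8, fa2, fa4, zero_mul, mul_zero, add_zero, zero_add, map_zero, pow_zero, ne_eq, OfNat.ofNat_ne_zero, not_false_eq_true, zero_pow, add_eq_right, add_eq_left, left_eq_add, right_eq_add] at fa6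
  have fa7 := congrArg Cd.a7 e
  rw [mul_a7, mul_a7] at fa7
  simp only [z0, z1, z2, z3, z4, z5, z6, fa1, fa8, fb8, fa2, fa4, fa6, zero_mul, mul_zero, add_zero, zero_add, map_zero, pow_zero, ne_eq, OfNat.ofNat_ne_zero, not_false_eq_true, zero_pow, add_eq_right, add_eq_left, left_eq_add, right_eq_add] at fa7
  exact ⟨fa1, fa2, fa4, fa6, fa7, fa8, fb8⟩

end Cfsg.Agent.H752.TF
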