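import Cfsg.Agent.H752.TF.CoQ
import Cfsg.Agent.H752.TF.CoV
import Cfsg.Agent.H752.TF.CoE
import Cfsg.Agent.H752.TF.CoD

set_option autoImplicit false
set_option linter.unusedVariables false
set_option linter.unusedSimpArgs false

namespace Cfsg.Agent.H752.TF

open Cfsg.Agent.Octagon.Pkg Cfsg.Agent.H745.TF

universe u v

variable {K : Type u} [Field K] {σ : K →+* K} {m : ℕ} (hK : HypK σ m)
variable {U : Type v} [Group U] (T : TF σ U)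

include hK

/-! ### inclusions -/

theorem V_le_QA : T.V ≤ T.QA := by
  intro g hg
  rw [mem_V hK] at hg
  rw [mem_QA hK]
  obtain ⟨za1, za2, zb2, za3, za4, za5, za6, za7, za8, zb8⟩ := hg
  exact ⟨za8, zb8⟩

theorem V_le_QB : T.V ≤ T.QB := by
  intro g hg
  rw [mem_V hK] at hg
  rw [mem_QB hK]
  obtain ⟨za1, za2, zb2, za3, za4, za5, za6, za7, za8, zb8⟩ := hg
  exact za1

theorem V_le_Y : T.V ≤ T.Y := by
  intro g hg
  rw [mem_V hK] at hg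
  rw [mem_Y hK]
  obtain ⟨za1, za2, zb2, za3, za4, za5, za6, za7, za8, zb8⟩ := hg
  exact ⟨za1, za2, zb2, za3, za4, za6, za7, za8, zb8⟩

theorem V_le_E4 : T.V ≤ T.E4 := by
  intro g hg
  rw [mem_V hK] at hg
  rw [mem_E4 hK]
  obtain ⟨za1, za2, zb2, za3, za4, za5, za6, za7, za8, zb8⟩ := hg
  exact ⟨za1, za2, zb2, za4, za6, za7, za8, zb8⟩

theorem V_le_E : T.V ≤ T.E := by
  intro g hg
  rw [mem_V hK] at hg
  rw [mem_E hK]
  obtain ⟨za1, za2, zb2, za3, za4, za5, za6, za7, za8, zb8⟩ := hg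
  exact ⟨za1, za2, za4, za6, za7, za8, zb8⟩

theorem V_le_D : T.V ≤ T.D := by
  intro g hg
  rw [mem_V hK] at hg
  rw [mem_D hK]
  obtain ⟨za1, za2, zb2, za3, za4, za5, za6, za7, za8, zb8⟩ := hg
  exact ⟨za1, za2, za6, za7, za8, zb8⟩

theorem V_le_A37 : T.V ≤ T.A37 := by
  intro g hg
  rw [mem_V hK] at hg
  rw [mem_A37 hK]
  obtain ⟨za1, za2, zb2, za3, za4, za5, za6, za7, za8, zb8⟩ := hg
  exact ⟨za1, za2, zb2, za4, za6, za8, zb8⟩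

theorem V_le_N3 : T.V ≤ T.N3 := by
  intro g hg
  rw [mem_V hK] at hg
  rw [mem_N3 hK]
  obtain ⟨za1, za2, zb2, za3, za4, za5, za6, za7, za8, zb8⟩ := hg
  exact ⟨za1, za2, za8⟩

theorem Y_le_QA : T.Y ≤ T.QA := by
  intro g hg
  rw [mem_Y hK] at hg
  rw [mem_QA hK]
  obtain ⟨za1, za2, zb2, za3, za4, za6, za7, za8, zb8⟩ := hg
  exact ⟨za8, zb8⟩

theorem Y_le_QB : T.Y ≤ T.QB := by
  intro g hg
  rw [mem_Y hK] at hg
  rw [mem_QB hK]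
  obtain ⟨za1, za2, zb2, za3, za4, za6, za7, za8, zb8⟩ := hg
  exact za1

theorem Y_le_E4 : T.Y ≤ T.E4 := by
  intro g hg
  rw [mem_Y hK] at hg
  rw [mem_E4 hK]
  obtain ⟨za1, za2, zb2, za3, za4, za6, za7, za8, zb8⟩ := hg
  exact ⟨za1, za2, zb2, za4, za6, za7, za8, zb8⟩

theorem Y_le_E : T.Y ≤ T.E := by
  intro g hg
  rw [mem_Y hK] at hg
  rw [mem_E hK]
  obtain ⟨za1, za2, zb2, za3, za4, za6, za7, za8, zb8⟩ := hg
  exact ⟨za1, za2, za4, za6, za7, za8, zb8⟩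

theorem Y_le_D : T.Y ≤ T.D := by
  intro g hg
  rw [mem_Y hK] at hg
  rw [mem_D hK]
  obtain ⟨za1, za2, zb2, za3, za4, za6, za7, za8, zb8⟩ := hg
  exact ⟨za1, za2, za6, za7, za8, zb8⟩

theorem Y_le_A37 : T.Y ≤ T.A37 := by
  intro g hg
  rw [mem_Y hK] at hg
  rw [mem_A37 hK]
  obtain ⟨za1, za2, zb2, za3, za4, za6, za7, za8, zb8⟩ := hg
  exact ⟨za1, za2, zb2, za4, za6, za8, zb8⟩

theorem Y_le_N3 : T.Y ≤ T.N3 := by
  intro g hg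
  rw [mem_Y hK] at hg
  rw [mem_N3 hK]
  obtain ⟨za1, za2, zb2, za3, za4, za6, za7, za8, zb8⟩ := hg
  exact ⟨za1, za2, za8⟩

theorem E4_le_QA : T.E4 ≤ T.QA := by
  intro g hg
  rw [mem_E4 hK] at hg
  rw [mem_QA hK]
  obtain ⟨za1, za2, zb2, za4, za6, za7, za8, zb8⟩ := hg
  exact ⟨za8, zb8⟩

theorem E4_le_QB : T.E4 ≤ T.QB := by
  intro g hg
  rw [mem_E4 hK] at hg
  rw [mem_QB hK]
  obtain ⟨za1, za2, zb2, za4, za6, za7, za8, zb8⟩ := hg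
  exact za1

theorem E4_le_E : T.E4 ≤ T.E := by
  intro g hg
  rw [mem_E4 hK] at hg
  rw [mem_E hK]
  obtain ⟨za1, za2, zb2, za4, za6, za7, za8, zb8⟩ := hg
  exact ⟨za1, za2, za4, za6, za7, za8, zb8⟩

theorem E4_le_D : T.E4 ≤ T.D := by
  intro g hg
  rw [mem_E4 hK] at hg
  rw [mem_D hK]
  obtain ⟨za1, za2, zb2, za4, za6, za7, za8, zb8⟩ := hg
  exact ⟨za1, za2, za6, za7, za8, zb8⟩

theorem E4_le_A37 : T.E4 ≤ T.A37 := by
  intro g hg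
  rw [mem_E4 hK] at hg
  rw [mem_A37 hK]
  obtain ⟨za1, za2, zb2, za4, za6, za7, za8, zb8⟩ := hg
  exact ⟨za1, za2, zb2, za4, za6, za8, zb8⟩

theorem E4_le_N3 : T.E4 ≤ T.N3 := by
  intro g hg
  rw [mem_E4 hK] at hg
  rw [mem_N3 hK]
  obtain ⟨za1, za2, zb2, za4, za6, za7, za8, zb8⟩ := hg
  exact ⟨za1, za2, za8⟩

theorem E_le_QA : T.E ≤ T.QA := by
  intro g hg
  rw [mem_E hK] at hg
  rw [mem_QA hK]
  obtain ⟨za1, za2, za4, za6, za7, za8, zb8⟩ := hg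
  exact ⟨za8, zb8⟩

theorem E_le_QB : T.E ≤ T.QB := by
  intro g hg
  rw [mem_E hK] at hg
  rw [mem_QB hK]
  obtain ⟨za1, za2, za4, za6, za7, za8, zb8⟩ := hg
  exact za1

theorem E_le_D : T.E ≤ T.D := by
  intro g hg
  rw [mem_E hK] at hg
  rw [mem_D hK]
  obtain ⟨za1, za2, za4, za6, za7, za8, zb8⟩ := hg
  exact ⟨za1, za2, za6, za7, za8, zb8⟩

theorem E_le_N3 : T.E ≤ T.N3 := by
  intro g hg
  rw [mem_E hK] at hg
  rw [mem_N3 hK]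
  obtain ⟨za1, za2, za4, za6, za7, za8, zb8⟩ := hg
  exact ⟨za1, za2, za8⟩

theorem D_le_QA : T.D ≤ T.QA := by
  intro g hg
  rw [mem_D hK] at hg
  rw [mem_QA hK]
  obtain ⟨za1, za2, za6, za7, za8, zb8⟩ := hg
  exact ⟨za8, zb8⟩

theorem D_le_QB : T.D ≤ T.QB := by
  intro g hg
  rw [mem_D hK] at hg
  rw [mem_QB hK]
  obtain ⟨za1, za2, za6, za7, za8, zb8⟩ := hg
  exact za1

theorem D_le_N3 : T.D ≤ T.N3 := by
  intro g hg
  rw [mem_D hK] at hg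
  rw [mem_N3 hK]
  obtain ⟨za1, za2, za6, za7, za8, zb8⟩ := hg
  exact ⟨za1, za2, za8⟩

theorem A37_le_QA : T.A37 ≤ T.QA := by
  intro g hg
  rw [mem_A37 hK] at hg
  rw [mem_QA hK]
  obtain ⟨za1, za2, zb2, za4, za6, za8, zb8⟩ := hg
  exact ⟨za8, zb8⟩

theorem A37_le_QB : T.A37 ≤ T.QB := by
  intro g hg
  rw [mem_A37 hK] at hg
  rw [mem_QB hK]
  obtain ⟨za1, za2, zb2, za4, za6, za8, zb8⟩ := hg
  exact za1

theorem A37_le_N3 : T.A37 ≤ T.N3 := by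
  intro g hg
  rw [mem_A37 hK] at hg
  rw [mem_N3 hK]
  obtain ⟨za1, za2, zb2, za4, za6, za8, zb8⟩ := hg
  exact ⟨za1, za2, za8⟩

theorem N3_le_QB : T.N3 ≤ T.QB := by
  intro g hg
  rw [mem_N3 hK] at hg
  rw [mem_QB hK]
  obtain ⟨za1, za2, za8⟩ := hg
  exact za1

end Cfsg.Agent.H752.TF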