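import Cfsg.Agent.H745.TF.EssStmts
import Cfsg.Agent.H752.TF.Co

/-!
# S5262 (INV), (ORD): involutions of `U` (helper752)
-/

set_option autoImplicit false
set_option linter.unusedVariables false
set_option linter.unusedSimpArgs false

namespace Cfsg.Agent.H752.TF

open Cfsg Cfsg.FusionSystem Cfsg.Agent.Octagon.Pkg Cfsg.Agent.H745.TF Cfsg.Agent.H756.PU

universe u v

/-- (ORD) -/
theorem stOrd : StOrd.{u, v} := by
  intro K _ σ m hK U _ T g hg hgQ
  have h2 := hK.two
  have h := congrArg (co T) hg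
  rw [co_mul hK, co_one] at h
  rw [mem_QB hK] at hgQ
  rw [mem_N3 hK]
  generalize co T g = c at h hgQ ⊢
  have f1 := congrArg Cd.b2 h
  have f2 := congrArg Cd.b8 h
  rw [mul_b2, hgQ] at f1
  rw [mul_b8] at f2
  simp only [zero_mul, mul_zero, map_zero, add_zero] at f1 f2
  have f3 : c.a2 * σ c.a2 = 0 := by linear_combination f1 - c.b2 * h2
  have f4 : c.a8 * σ c.a8 = 0 := by linear_combination f2 - c.b8 * h2
  have hz : ∀ x : K, x * σ x = 0 → x = 0 := by
    intro x hx
    rcases mul_eq_zero.1 hx with h | h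
    · exact h
    · exact (map_eq_zero σ).1 h
  exact ⟨hgQ, hz _ f3, hz _ f4⟩

section

variable {K : Type u} [Field K] {σ : K →+* K} {m : ℕ} (hK : HypK σ m)
variable {U : Type v} [Group U] (T : TF σ U)

include hK

/-- conjugation by `x8` kills `a2`, `a6` -/
theorem inv_step1 {g : U} (h8 : (co T g).a8 = 0) (h8' : (co T g).b8 = 0) (h1 : (co T g).a1 ≠ 0) :
    ∃ z : U, (co T (z * g * z⁻¹)).a1 = (co T g).a1 ∧ (co T (z * g * z⁻¹)).a2 = 0 ∧ (co T (z * g * z⁻¹)).a6 = 0 ∧
      (co T (z * g * z⁻¹)).a8 = 0 ∧ (co T (z * g * z⁻¹)).b8 = 0 := by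
  have h2 := hK.two
  set k := (co T g).a2 / (co T g).a1 with hk
  set v := ((co T g).a6 + (co T g).a2 * σ k + k * σ k * (co T g).a1) / (co T g).a1 with hv
  have hk' : k * (co T g).a1 = (co T g).a2 := div_mul_cancel₀ _ h1
  have hv' : v * (co T g).a1 = (co T g).a6 + (co T g).a2 * σ k + k * σ k * (co T g).a1 := div_mul_cancel₀ _ h1
  clear_value k v
  refine ⟨T.x8 k v, ?_⟩
  have e : co T (T.x8 k v * g * (T.x8 k v)⁻¹ * T.x8 k v) = co T (T.x8 k v * g) := by rw [inv_mul_cancel_right]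
  rw [co_mul hK T _ (T.x8 k v), co_mul hK T (T.x8 k v) g, co_x8] at e
  generalize co T (T.x8 k v * g * (T.x8 k v)⁻¹) = h at e ⊢
  generalize co T g = c at h8 h8' h1 hk' hv' e ⊢
  have f1 := congrArg Cd.a1 e
  rw [mul_a1, mul_a1] at f1
  simp only [e8, add_zero, zero_add] at f1
  have f8 := congrArg Cd.a8 e
  rw [mul_a8, mul_a8] at f8
  simp only [e8, h8, add_zero, zero_add, add_eq_right] at f8
  have g8 := congrArg Cd.b8 e
  rw [mul_b8, mul_b8] at g8
  simp only [e8, h8, h8', f8, map_zero, mul_zero, zero_mul, add_zero, zero_add, add_eq_right] at g8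
  have f2 := congrArg Cd.a2 e
  rw [mul_a2, mul_a2] at f2
  simp only [e8, f8, mul_zero, zero_mul, add_zero, zero_add] at f2
  have f6 := congrArg Cd.a6 e
  rw [mul_a6, mul_a6] at f6
  simp only [e8, f8, g8, mul_zero, zero_mul, add_zero, zero_add, map_zero] at f6
  refine ⟨f1, ?_, ?_, f8, g8⟩
  · rw [f2, hk']; linear_combination c.a2 * h2
  · rw [f6, hv']; linear_combination (c.a6 + c.a2 * σ k + k * σ k * c.a1) * h2

/-- an involution outside `QB` with `a2 = a6 = a8 = 0` is conjugate to `x1 t` -/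
theorem inv_step2 {g : U} (hg : g * g = 1) (h1 : (co T g).a1 ≠ 0) (h2' : (co T g).a2 = 0) (h6 : (co T g).a6 = 0)
    (h8 : (co T g).a8 = 0) (h8' : (co T g).b8 = 0) : ∃ y : U, y * g * y⁻¹ = T.x1 (co T g).a1 := by
  have h2 := hK.two
  haveI := hK.fin
  have hs : Function.Surjective σ := Finite.surjective_of_injective σ.injective
  have e := congrArg (co T) hg
  rw [co_mul hK, co_one] at e
  have key : ∃ c : Cd K, T.el c * g = T.x1 (co T g).a1 * T.el c := by
    have hgel := el_co T g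
    generalize co T g = c at h1 h2' h6 h8 h8' e hgel ⊢
    have hσ : σ c.a1 ≠ 0 := (map_ne_zero σ).2 h1
    have f4 := congrArg Cd.b2 e
    rw [mul_b2] at f4
    simp only [h2', h6, h8, h8', mul_zero, zero_mul, add_zero, map_zero] at f4
    replace f4 : c.a4 = 0 := by
      have : c.a4 * c.a1 = 0 := by linear_combination f4 - c.b2 * h2
      exact (mul_eq_zero.1 this).resolve_right h1
    have f7 := congrArg Cd.a3 e
    rw [mul_a3] at f7
    simp only [h2', h6, h8, h8', f4, mul_zero, zero_mul, add_zero, map_zero] at f7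
    replace f7 : c.a7 = 0 := by
      have : c.a7 * σ c.a1 = 0 := by linear_combination f7 - c.a3 * h2
      exact (mul_eq_zero.1 this).resolve_right hσ
    have g6 := congrArg Cd.b4 e
    rw [mul_b4] at g6
    simp only [h2', h6, h8, h8', f4, f7, mul_zero, zero_mul, add_zero, map_zero, zero_pow, ne_eq, OfNat.ofNat_ne_zero,
      not_false_eq_true] at g6
    replace g6 : c.b6 = 0 := by
      have : c.b6 * c.a1 = 0 := by linear_combination g6 - c.b4 * h2
      exact (mul_eq_zero.1 this).resolve_right h1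
    obtain ⟨s, hs1⟩ := hs (c.a5 / c.a1)
    obtain ⟨q, hq1⟩ := hs ((c.a3 + s * σ c.a1) / c.a1)
    obtain ⟨p, hp1⟩ : ∃ p, p = (c.b2 + q * σ c.a1) / c.a1 := ⟨_, rfl⟩
    obtain ⟨w, hw1⟩ : ∃ w, w = (c.b4 + c.a3 * q + c.b2 * s + q * s * σ c.a1) / c.a1 := ⟨_, rfl⟩
    have hs2 : σ s * c.a1 = c.a5 := by rw [hs1, div_mul_cancel₀ _ h1]
    have hq2 : σ q * c.a1 = c.a3 + s * σ c.a1 := by rw [hq1, div_mul_cancel₀ _ h1]
    have hp2 : p * c.a1 = c.b2 + q * σ c.a1 := by rw [hp1, div_mul_cancel₀ _ h1]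
    have hw2 : w * c.a1 = c.b4 + c.a3 * q + c.b2 * s + q * s * σ c.a1 := by rw [hw1, div_mul_cancel₀ _ h1]
    clear hs1 hq1 hp1 hw1
    refine ⟨⟨0, 0, 0, 0, p, 0, 0, q, w, s, 0, 0⟩, ?_⟩
    rw [← hgel, ← el_e1, H181.TF.el_mul T hK.two hK.sq, H181.TF.el_mul T hK.two hK.sq]
    congr 1
    ext <;> simp only [mul_a1, mul_a2, mul_b2, mul_a3, mul_a4, mul_b4, mul_a5, mul_a6, mul_b6, mul_a7, mul_a8, mul_b8,
      e1, h2', h6, h8, h8', f4, f7, g6, zero_mul, mul_zero, add_zero, zero_add, map_zero, pow_zero, ne_eq,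
      OfNat.ofNat_ne_zero, not_false_eq_true, zero_pow]
    all_goals grind
  obtain ⟨c, hc⟩ := key
  exact ⟨T.el c, by rw [hc, mul_inv_cancel_right]⟩

end

/-- (INV) -/
theorem stInv : StInv.{u, v} := by
  intro K _ σ m hK U _ T g hg hgQ
  have h2 := hK.two
  rw [mem_QB hK] at hgQ
  have e := congrArg (co T) hg
  rw [co_mul hK, co_one] at e
  have h8 : (co T g).a8 = 0 := by
    have f := congrArg Cd.b8 e
    rw [mul_b8] at f
    simp only at f
    have f4 : (co T g).a8 * σ (co T g).a8 = 0 := by linear_combination f - (co T g).b8 * h2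
    rcases mul_eq_zero.1 f4 with h | h
    · exact h
    · exact (map_eq_zero σ).1 h
  have h8' : (co T g).b8 = 0 := by
    have f := congrArg Cd.a6 e
    rw [mul_a6, h8] at f
    simp only [map_zero, zero_mul, add_zero] at f
    have f4 : (co T g).b8 * (co T g).a1 = 0 := by linear_combination f - (co T g).a6 * h2
    exact (mul_eq_zero.1 f4).resolve_right hgQ
  obtain ⟨z, z1, z2, z6, z8, z8'⟩ := inv_step1 hK T h8 h8' hgQ
  have hz : z * g * z⁻¹ * (z * g * z⁻¹) = 1 := by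
    have : z * g * z⁻¹ * (z * g * z⁻¹) = z * (g * g) * z⁻¹ := by group
    rw [this, hg, mul_one, mul_inv_cancel]
  obtain ⟨y, hy⟩ := inv_step2 hK T hz (by rw [z1]; exact hgQ) z2 z6 z8 z8'
  refine ⟨y * z, (co T g).a1, hgQ, ?_⟩
  rw [z1] at hy
  rw [← hy]
  group

end Cfsg.Agent.H752.TF
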