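import Cfsg.Agent.H745.TF.EssStmts
import Cfsg.Agent.H752.TF.Co

/-!
# S5262 (ESS3): `Y ≤ R ≤ N3` is impossible, parts (A) `A37 ≤ R < N3` and (C) `R = N3` (helper752)
-/

set_option autoImplicit false
set_option linter.unusedVariables false
set_option linter.unusedSimpArgs false

namespace Cfsg.Agent.H752.TF

open Cfsg Cfsg.FusionSystem Cfsg.Agent.Octagon.Pkg Cfsg.Agent.H745.TF Cfsg.Agent.H756.PU Cfsg.Agent.H802.TE

universe u v

section

variable {K : Type u} [Field K] {σ : K →+* K} {m : ℕ} (hK : HypK σ m)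
variable {U : Type v} [Group U] (T : TF σ U)

include hK

/-- the coordinates of a commutator -/
theorem co_comm {g h : U} {v : Cd K}
    (e : H181.TF.mul σ (co T g) (co T h) = H181.TF.mul σ v (H181.TF.mul σ (co T h) (co T g))) :
    co T (g * h * g⁻¹ * h⁻¹) = v := by
  have h1 : g * h = T.el v * (h * g) := by
    apply co_injective T
    rw [co_mul hK, co_mul hK, co_mul hK, co_el, e]
  have h2 : g * h * g⁻¹ * h⁻¹ = T.el v := by
    rw [h1]
    group
  rw [h2, co_el]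

/-- `[N3, A37]` -/
theorem comm_N3_A37 {n a : U} (hn : n ∈ T.N3) (ha : a ∈ T.A37) :
    co T (n * a * n⁻¹ * a⁻¹) =
      ⟨0, 0, 0, 0, 0, (co T n).a6 * (co T a).a3 + (co T n).b2 * (co T a).a7, 0, 0,
        (co T n).b8 * (co T a).a3 + (co T n).a4 * (co T a).a7, 0, 0, 0⟩ := by
  apply co_comm hK
  rw [mem_N3 hK] at hn
  rw [mem_A37 hK] at ha
  have h2 := hK.two
  generalize co T n = c at hn ⊢
  generalize co T a = d at ha ⊢
  obtain ⟨c1, c2, c8⟩ := hn
  obtain ⟨d1, d2, d3, d4, d6, d8, d9⟩ := ha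
  ext <;> simp only [mul_a1, mul_a2, mul_b2, mul_a3, mul_a4, mul_b4, mul_a5, mul_a6, mul_b6, mul_a7, mul_a8, mul_b8,
    c1, c2, c8, d1, d2, d3, d4, d6, d8, d9, zero_mul, mul_zero, add_zero, zero_add, map_zero, pow_zero, ne_eq,
    OfNat.ofNat_ne_zero, not_false_eq_true, zero_pow]
  all_goals first | ring1 | grind

/-- `[N3, N3] ≤ Y` -/
theorem comm_N3 {n n' : U} (hn : n ∈ T.N3) (hn' : n' ∈ T.N3) : n * n' * n⁻¹ * n'⁻¹ ∈ T.Y := by
  have e : co T (n * n' * n⁻¹ * n'⁻¹ * (n' * n)) = co T (n * n') := by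
    congr 1
    group
  rw [co_mul hK T _ (n' * n), co_mul hK T n' n, co_mul hK T n n'] at e
  rw [mem_N3 hK] at hn hn'
  rw [mem_Y hK]
  generalize co T (n * n' * n⁻¹ * n'⁻¹) = z at e ⊢
  generalize co T n = c at e hn
  generalize co T n' = d at e hn'
  obtain ⟨c1, c2, c8⟩ := hn
  obtain ⟨d1, d2, d8⟩ := hn'
  have f1 := congrArg Cd.a1 e
  simp only [mul_a1, c1, c2, c8, d1, d2, d8, zero_mul, mul_zero, add_zero, zero_add, map_zero] at f1
  have f8 := congrArg Cd.a8 e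
  simp only [mul_a8, c1, c2, c8, d1, d2, d8, zero_mul, mul_zero, add_zero, zero_add, map_zero] at f8
  have g8 := congrArg Cd.b8 e
  simp only [mul_b8, mul_a8, c1, c2, c8, d1, d2, d8, f1, f8, zero_mul, mul_zero, add_zero, zero_add, map_zero] at g8
  replace g8 : z.b8 = 0 := by linear_combination g8
  have f2 := congrArg Cd.a2 e
  simp only [mul_a2, mul_a1, c1, c2, c8, d1, d2, d8, f1, f8, g8, zero_mul, mul_zero, add_zero, zero_add, map_zero] at f2
  have f4 := congrArg Cd.a4 e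
  simp only [mul_a4, mul_a2, mul_a1, c1, c2, c8, d1, d2, d8, f1, f8, g8, f2, zero_mul, mul_zero, add_zero, zero_add, map_zero] at f4
  replace f4 : z.a4 = 0 := by linear_combination f4
  have f6 := congrArg Cd.a6 e
  simp only [mul_a6, mul_a4, mul_a2, mul_a1, c1, c2, c8, d1, d2, d8, f1, f8, g8, f2, f4, zero_mul, mul_zero, add_zero, zero_add,
    map_zero] at f6
  replace f6 : z.a6 = 0 := by linear_combination f6
  have f7 := congrArg Cd.a7 e
  simp only [mul_a7, mul_a6, mul_a4, mul_a2, mul_a1, c1, c2, c8, d1, d2, d8, f1, f8, g8, f2, f4, f6, zero_mul, mul_zero, add_zero,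
    zero_add, map_zero, pow_zero, ne_eq, OfNat.ofNat_ne_zero, not_false_eq_true, zero_pow] at f7
  replace f7 : z.a7 = 0 := by linear_combination f7
  have g2 := congrArg Cd.b2 e
  simp only [mul_b2, mul_a6, mul_a4, mul_a2, mul_a1, c1, c2, c8, d1, d2, d8, f1, f8, g8, f2, f4, f6, f7, zero_mul, mul_zero, add_zero,
    zero_add, map_zero, pow_zero, ne_eq, OfNat.ofNat_ne_zero, not_false_eq_true, zero_pow] at g2
  replace g2 : z.b2 = 0 := by linear_combination g2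
  have f3 := congrArg Cd.a3 e
  simp only [mul_a3, mul_b2, mul_a6, mul_a4, mul_a2, mul_a1, c1, c2, c8, d1, d2, d8, f1, f8, g8, f2, f4, f6, f7, g2, zero_mul, mul_zero,
    add_zero, zero_add, map_zero, pow_zero, ne_eq, OfNat.ofNat_ne_zero, not_false_eq_true, zero_pow] at f3
  replace f3 : z.a3 = 0 := by linear_combination f3
  exact ⟨f1, f2, g2, f3, f4, f6, f7, f8, g8⟩

/-- `Y` is central in `N3` -/
theorem comm_Y {n y : U} (hn : n ∈ T.N3) (hy : y ∈ T.Y) : n * y = y * n := by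
  apply co_injective T
  rw [co_mul hK, co_mul hK]
  rw [mem_N3 hK] at hn
  rw [mem_Y hK] at hy
  generalize co T n = c at hn ⊢
  generalize co T y = d at hy ⊢
  obtain ⟨c1, c2, c8⟩ := hn
  obtain ⟨d1, d2, d3, d4, d5, d6, d7, d8, d9⟩ := hy
  ext <;> simp only [mul_a1, mul_a2, mul_b2, mul_a3, mul_a4, mul_b4, mul_a5, mul_a6, mul_b6, mul_a7, mul_a8, mul_b8,
    c1, c2, c8, d1, d2, d3, d4, d5, d6, d7, d8, d9, zero_mul, mul_zero, add_zero, zero_add, map_zero, pow_zero, ne_eq,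
    OfNat.ofNat_ne_zero, not_false_eq_true, zero_pow]
  all_goals ring

/-- `C_{N3}(A37) = A37` -/
theorem mem_A37_of_comm {n : U} (hn : n ∈ T.N3) (h : ∀ a ∈ T.A37, n * a = a * n) : n ∈ T.A37 := by
  have key : ∀ a ∈ T.A37, (co T n).a6 * (co T a).a3 + (co T n).b2 * (co T a).a7 = 0 ∧
      (co T n).b8 * (co T a).a3 + (co T n).a4 * (co T a).a7 = 0 := by
    intro a ha
    have h1 : n * a * n⁻¹ * a⁻¹ = 1 := by rw [h a ha, mul_inv_cancel_right, mul_inv_cancel]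
    have h2 := comm_N3_A37 hK T hn ha
    rw [h1, co_one] at h2
    exact ⟨(congrArg Cd.b4 h2).symm, (congrArg Cd.b6 h2).symm⟩
  obtain ⟨k1, k2⟩ := key (T.x3 1) (X3_le_A37 T (x3_mem T 1))
  obtain ⟨k3, k4⟩ := key (T.x7 1) (X7_le_A37 T (x7_mem T 1))
  simp only [co_x3, co_x7, e3, e7, mul_one, mul_zero, add_zero, zero_add] at k1 k2 k3 k4
  rw [mem_N3 hK] at hn
  rw [mem_A37 hK]
  exact ⟨hn.1, hn.2.1, k3, k4, k1, hn.2.2, k2⟩

end

theorem relc {G : Type*} [Group G] {A B : Subgroup G} (h : A ≤ B) : A.relIndex B * Nat.card A = Nat.card B := by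
  rw [← Subgroup.card_mul_index (A.subgroupOf B), Subgroup.relIndex, mul_comm,
    Nat.card_congr (Subgroup.subgroupOfEquivOfLe h).toEquiv]

/-- (A) -/
theorem essA (hp2 : StP2.{v}) (hhull : StHull.{v}) (hphi : StPhi.{v}) {K : Type u} [Field K] {σ : K →+* K} {m : ℕ}
    (hK : HypK σ m) {U : Type v} [Group U] (T : TF σ U) {R : Subgroup U} {Γ : Subgroup (MulAut R)}
    (hE : Ess (⊤ : Subgroup U) R 2 Γ) (hR : T.A37 ≤ R) (hN : R ≤ T.N3) (hne : R ≠ T.N3) : False := by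
  haveI := finite_U hK T
  haveI := hK.fin
  have hYA : T.Y ≤ T.A37 := Y_le_A37 hK T
  have hYR : T.Y ≤ R := hYA.trans hR
  have hN3R : ¬ T.N3 ≤ R := fun h => hne (le_antisymm hN h)
  have hpR : IsPGroup 2 R := hE.pgr.of_injective (Subgroup.inclusion hE.E_le) (Subgroup.inclusion_injective _)
  obtain ⟨hΦR, hRR, -, -, -, -⟩ := hphi R 2 Nat.prime_two inferInstance hpR
  have hcom : ∀ x ∈ T.N3, ∀ y ∈ T.N3, x * y * x⁻¹ * y⁻¹ ∈ T.Y := fun x hx y hy => comm_N3 hK T hx hy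
  -- `N3` normalizes `R`
  have hnorm : T.N3 ≤ normalizerIn ⊤ R := by
    intro x hx
    refine Subgroup.mem_inf.2 ⟨Subgroup.mem_top _, ?_⟩
    have h1 : ∀ w ∈ T.N3, ∀ e ∈ R, w * e * w⁻¹ ∈ R := by
      intro w hw e he
      have h2 : w * e * w⁻¹ = w * e * w⁻¹ * e⁻¹ * e := by group
      rw [h2]
      exact R.mul_mem (hYR (hcom w hw e (hN he))) he
    rw [Subgroup.mem_normalizer_iff]
    intro e
    refine ⟨h1 x hx e, fun h => ?_⟩
    have h2 := h1 x⁻¹ (T.N3.inv_mem hx) _ h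
    rwa [inv_inv, ← mul_assoc, ← mul_assoc, inv_mul_cancel, one_mul, inv_mul_cancel_right] at h2
  -- HULL
  obtain ⟨γ, hγ, y0, hy0, n, hn, hcon⟩ := hhull hE T.N3 T.Y le_top hYR (fun x hx e he => hcom x hx e (hN he)) hN3R
  set y : U := ((γ y0 : R) : U) with hy
  have hyR : y ∈ R := (γ y0).2
  have hyc : ∀ r ∈ R, y * r = r * y := by
    intro r hr
    have h1 : y0 * γ⁻¹ ⟨r, hr⟩ = γ⁻¹ ⟨r, hr⟩ * y0 := by
      apply Subtype.ext
      exact (comm_Y hK T (hN (γ⁻¹ ⟨r, hr⟩).2) hy0).symm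
    have h2 := congrArg (fun e : R => ((γ e : R) : U)) h1
    simp only [map_mul, MulAut.apply_inv_self, Subgroup.coe_mul] at h2
    exact h2
  have hyA : y ∈ T.A37 := mem_A37_of_comm hK T (hN hyR) fun a ha => hyc a (hR ha)
  have hyY : y ∉ T.Y := by
    intro h
    apply hcon
    rw [comm_Y hK T hn h, mul_inv_cancel_right, mul_inv_cancel]
    exact (Phi R).one_mem
  -- the element `a0`
  obtain ⟨a0, ha0, hinj⟩ : ∃ a0 ∈ T.A37, ∀ r ∈ R, r * a0 * r⁻¹ * a0⁻¹ = 1 → r ∈ T.A37 := by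
    have h37 : (co T y).a3 ≠ 0 ∨ (co T y).a7 ≠ 0 := by
      by_contra hh
      push Not at hh
      apply hyY
      rw [mem_A37 hK] at hyA
      rw [mem_Y hK]
      exact ⟨hyA.1, hyA.2.1, hyA.2.2.1, hh.1, hyA.2.2.2.1, hyA.2.2.2.2.1, hh.2, hyA.2.2.2.2.2.1, hyA.2.2.2.2.2.2⟩
    have hr0 : ∀ r ∈ R, (co T r).a6 * (co T y).a3 + (co T r).b2 * (co T y).a7 = 0 ∧
        (co T r).b8 * (co T y).a3 + (co T r).a4 * (co T y).a7 = 0 := by
      intro r hr
      have h1 : r * y * r⁻¹ * y⁻¹ = 1 := by rw [← hyc r hr, mul_inv_cancel_right, mul_inv_cancel]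
      have h2 := comm_N3_A37 hK T (hN hr) hyA
      rw [h1, co_one] at h2
      exact ⟨(congrArg Cd.b4 h2).symm, (congrArg Cd.b6 h2).symm⟩
    rcases h37 with h3 | h7
    · refine ⟨T.x7 1, X7_le_A37 T (x7_mem T 1), fun r hr h => ?_⟩
      have h2 := comm_N3_A37 hK T (hN hr) (X7_le_A37 T (x7_mem T 1))
      rw [h, co_one] at h2
      have k3 := (congrArg Cd.b4 h2).symm
      have k4 := (congrArg Cd.b6 h2).symm
      simp only [co_x7, e7, mul_one, mul_zero, zero_add] at k3 k4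
      obtain ⟨k1, k2⟩ := hr0 r hr
      rw [k3, zero_mul, add_zero] at k1
      rw [k4, zero_mul, add_zero] at k2
      have hrN := hN hr
      rw [mem_N3 hK] at hrN
      rw [mem_A37 hK]
      exact ⟨hrN.1, hrN.2.1, k3, k4, (mul_eq_zero.1 k1).resolve_right h3, hrN.2.2, (mul_eq_zero.1 k2).resolve_right h3⟩
    · refine ⟨T.x3 1, X3_le_A37 T (x3_mem T 1), fun r hr h => ?_⟩
      have h2 := comm_N3_A37 hK T (hN hr) (X3_le_A37 T (x3_mem T 1))
      rw [h, co_one] at h2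
      have k3 := (congrArg Cd.b4 h2).symm
      have k4 := (congrArg Cd.b6 h2).symm
      simp only [co_x3, e3, mul_one, mul_zero, add_zero] at k3 k4
      obtain ⟨k1, k2⟩ := hr0 r hr
      rw [k3, zero_mul, zero_add] at k1
      rw [k4, zero_mul, zero_add] at k2
      have hrN := hN hr
      rw [mem_N3 hK] at hrN
      rw [mem_A37 hK]
      exact ⟨hrN.1, hrN.2.1, (mul_eq_zero.1 k1).resolve_right h7, (mul_eq_zero.1 k2).resolve_right h7, k3, hrN.2.2, k4⟩
  -- the homomorphism `r ↦ [r, a0]`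
  have hVY : T.V ≤ T.Y := V_le_Y hK T
  have hcV : ∀ r ∈ R, r * a0 * r⁻¹ * a0⁻¹ ∈ T.V := by
    intro r hr
    rw [mem_V hK, comm_N3_A37 hK T (hN hr) ha0]
    exact ⟨rfl, rfl, rfl, rfl, rfl, rfl, rfl, rfl, rfl, rfl⟩
  let ψ : R →* U :=
    { toFun := fun r => (r : U) * a0 * (r : U)⁻¹ * a0⁻¹
      map_one' := by simp
      map_mul' := fun r s => by
        have h1 := comm_Y hK T (hN r.2) (hVY (hcV s s.2))
        have h2 : (((r * s : R) : U)) * a0 * ((r * s : R) : U)⁻¹ * a0⁻¹ =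
            ((r : U) * ((s : U) * a0 * (s : U)⁻¹ * a0⁻¹)) * (a0 * (r : U)⁻¹ * a0⁻¹) := by
          rw [Subgroup.coe_mul]; group
        rw [h2, h1]
        have h3 := comm_Y hK T (hN (R.mul_mem (R.mul_mem r.2 (hR ha0)) (R.mul_mem (R.inv_mem r.2) (R.inv_mem (hR ha0)))))
          (hVY (hcV s s.2))
        have h4 : ((s : U) * a0 * (s : U)⁻¹ * a0⁻¹) * (r : U) * (a0 * (r : U)⁻¹ * a0⁻¹) =
            ((s : U) * a0 * (s : U)⁻¹ * a0⁻¹) * ((r : U) * a0 * ((r : U)⁻¹ * a0⁻¹)) := by group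
        rw [h4, ← h3]
        group }
  have hker : Nat.card ψ.ker ≤ Nat.card T.A37 := by
    refine Nat.card_le_card_of_injective (fun r : ψ.ker => (⟨((r : R) : U), hinj _ (r : R).2 r.2⟩ : T.A37)) ?_
    intro r s h
    exact Subtype.ext (Subtype.ext (congrArg (fun z : T.A37 => (z : U)) h))
  have hran : ψ.range ≤ T.V ⊓ Phi R := by
    rintro _ ⟨r, rfl⟩
    exact ⟨hcV r r.2, hRR r r.2 a0 (hR ha0)⟩
  have hcard : Nat.card R = Nat.card ψ.ker * Nat.card ψ.range := by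
    rw [mul_comm, ← Nat.card_congr (QuotientGroup.quotientKerEquivRange ψ).toEquiv]
    exact Subgroup.card_eq_card_quotient_mul_card_subgroup ψ.ker
  -- counting
  obtain ⟨b, hb, hbR⟩ := SetLike.not_le_iff_exists.1 hN3R
  have hP := hp2 hE T.N3 T.N3 T.Y T.Y (T.V ⊓ Phi R) (T.V ⊓ Phi R) hnorm hnorm hN3R hYR hYR
    (fun x hx e he => hcom x hx e (hN he)) (fun x hx e he => hcom x hx e (hN he)) inf_le_right inf_le_right
  rw [← sq] at hP
  have hle : R.relIndex T.N3 ≤ (T.V ⊓ Phi R).relIndex T.Y := by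
    by_contra h
    exact absurd hP (not_le.2 (Nat.pow_lt_pow_left (not_le.1 h) two_ne_zero))
  have c1 := relc hN
  have c2 := relc (inf_le_left.trans hVY : T.V ⊓ Phi R ≤ T.Y)
  rw [card_N3 hK] at c1
  rw [card_Y hK] at c2
  rw [card_A37 hK] at hker
  have hran' : Nat.card ψ.range ≤ Nat.card ((T.V ⊓ Phi R : Subgroup U)) := Subgroup.card_le_of_le hran
  set q := 2 ^ (2 * m + 1) with hq
  have hq1 : 1 < q := Nat.one_lt_two_pow (by omega)
  set i := (T.V ⊓ Phi R).relIndex T.Y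
  set f := Nat.card ((T.V ⊓ Phi R : Subgroup U))
  have h1 : q ^ 9 ≤ q ^ 8 := by
    calc q ^ 9 = R.relIndex T.N3 * Nat.card R := c1.symm
      _ ≤ i * (q ^ 5 * f) := by
        rw [hcard]
        exact Nat.mul_le_mul hle (Nat.mul_le_mul hker hran')
      _ = q ^ 5 * (i * f) := by ring
      _ = q ^ 8 := by rw [c2]; ring
  exact absurd h1 (not_le.2 (Nat.pow_lt_pow_right hq1 (by norm_num)))

section

variable {K : Type u} [Field K] {σ : K →+* K} {m : ℕ} (hK : HypK σ m)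
variable {U : Type v} [Group U] (T : TF σ U)

include hK

/-- `Z(N3) ≤ Y` -/
theorem mem_Y_of_comm {n : U} (hn : n ∈ T.N3) (h : ∀ a ∈ T.N3, n * a = a * n) : n ∈ T.Y := by
  have hA : n ∈ T.A37 := mem_A37_of_comm hK T hn fun a ha => h a (A37_le_N3 hK T ha)
  have h1 : ∀ x ∈ T.N3, (co T x).a6 * (co T n).a3 + (co T x).b2 * (co T n).a7 = 0 := by
    intro x hx
    have h2 := comm_N3_A37 hK T hx hA
    rw [show x * n * x⁻¹ * n⁻¹ = 1 by rw [← h x hx, mul_inv_cancel_right, mul_inv_cancel], co_one] at h2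
    exact (congrArg Cd.b4 h2).symm
  have k3 := h1 (T.x6 1 0) (X6_le_N3 T (x6_mem T 1 0))
  have k7 := h1 (T.x2 0 1) (Z2_le_N3 T (x2_mem_Z T 1))
  simp only [co_x6, co_x2, e6, e2, one_mul, zero_mul, add_zero, zero_add] at k3 k7
  rw [mem_A37 hK] at hA
  rw [mem_Y hK]
  exact ⟨hA.1, hA.2.1, hA.2.2.1, k3, hA.2.2.2.1, hA.2.2.2.2.1, k7, hA.2.2.2.2.2.1, hA.2.2.2.2.2.2⟩

/-- `C_U(Y) = N3` -/
theorem mem_N3_of_comm {x : U} (h : ∀ y ∈ T.Y, x * y = y * x) : x ∈ T.N3 := by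
  have h1 := congrArg (co T) (h (T.x6 0 1) (Z6_le_Y T (x6_mem_Z T 1)))
  have h2 := congrArg (co T) (h (T.x5 1) (X5_le_Y T (x5_mem T 1)))
  rw [co_mul hK, co_mul hK, co_x6] at h1
  rw [co_mul hK, co_mul hK, co_x5] at h2
  rw [mem_N3 hK]
  generalize co T x = c at h1 h2 ⊢
  have f1 := congrArg Cd.b4 h1
  simp only [mul_b4, e6, mul_one, one_mul, zero_mul, mul_zero, add_zero, zero_add, map_zero, pow_zero, ne_eq,
    OfNat.ofNat_ne_zero, not_false_eq_true, zero_pow, left_eq_add] at f1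
  have f2 := congrArg Cd.b4 h2
  simp only [mul_b4, e5, mul_one, one_mul, zero_mul, mul_zero, add_zero, zero_add, map_zero, pow_zero, ne_eq,
    OfNat.ofNat_ne_zero, not_false_eq_true, zero_pow, left_eq_add, f1] at f2
  have f3 := congrArg Cd.b6 h2
  simp only [mul_b6, e5, mul_one, one_mul, zero_mul, mul_zero, add_zero, zero_add, map_zero, pow_zero, ne_eq,
    OfNat.ofNat_ne_zero, not_false_eq_true, zero_pow, add_eq_left, f1, f2] at f3
  exact ⟨f1, f2, f3⟩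

/-- `[QB, QB] ≤ N3` -/
theorem comm_QB {n n' : U} (hn : n ∈ T.QB) (hn' : n' ∈ T.QB) : n * n' * n⁻¹ * n'⁻¹ ∈ T.N3 := by
  have e : co T (n * n' * n⁻¹ * n'⁻¹ * (n' * n)) = co T (n * n') := by
    congr 1
    group
  rw [co_mul hK T _ (n' * n), co_mul hK T n' n, co_mul hK T n n'] at e
  rw [mem_QB hK] at hn hn'
  rw [mem_N3 hK]
  generalize co T (n * n' * n⁻¹ * n'⁻¹) = z at e ⊢
  generalize co T n = c at e hn
  generalize co T n' = d at e hn'
  have f1 := congrArg Cd.a1 e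
  simp only [mul_a1, hn, hn', zero_mul, mul_zero, add_zero, zero_add, map_zero] at f1
  have f8 := congrArg Cd.a8 e
  simp only [mul_a8, hn, hn', zero_mul, mul_zero, add_zero, zero_add, map_zero] at f8
  replace f8 : z.a8 = 0 := by linear_combination f8
  have f2 := congrArg Cd.a2 e
  simp only [mul_a2, mul_a1, hn, hn', f1, f8, zero_mul, mul_zero, add_zero, zero_add, map_zero] at f2
  replace f2 : z.a2 = 0 := by linear_combination f2
  exact ⟨f1, f2, f8⟩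

/-- `Z4` is central -/
theorem comm_Z4 (x : U) (u : K) : x * T.x4 0 u = T.x4 0 u * x := by
  apply co_injective T
  rw [co_mul hK, co_mul hK, co_x4]
  generalize co T x = c
  ext <;> simp only [mul_a1, mul_a2, mul_b2, mul_a3, mul_a4, mul_b4, mul_a5, mul_a6, mul_b6, mul_a7, mul_a8, mul_b8,
    e4, zero_mul, mul_zero, add_zero, zero_add, map_zero, pow_zero, ne_eq,
    OfNat.ofNat_ne_zero, not_false_eq_true, zero_pow]
  all_goals ring1

end

/-- (C) -/
theorem essC (hsec : StSecW.{v}) {K : Type u} [Field K] {σ : K →+* K} {m : ℕ}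
    (hK : HypK σ m) {U : Type v} [Group U] (T : TF σ U) {Γ : Subgroup (MulAut T.N3)}
    (hE : Ess (⊤ : Subgroup U) T.N3 2 Γ) : False := by
  haveI := finite_U hK T
  haveI := hK.fin
  have hY := Y_le_N3 hK T
  have h2 := hK.two
  have hnorm : ∀ A : Subgroup U, A ≤ normalizerIn ⊤ T.N3 := by
    intro A x _
    haveI := N3_normal hK T
    refine Subgroup.mem_inf.2 ⟨Subgroup.mem_top _, ?_⟩
    rw [Subgroup.normalizer_eq_top T.N3]
    exact Subgroup.mem_top _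
  -- the subgroup `Z4 X5`
  obtain ⟨S, hS⟩ := exists_sub hK T (fun c => c.a1 = 0 ∧ c.a2 = 0 ∧ c.b2 = 0 ∧ c.a3 = 0 ∧ c.a4 = 0 ∧ c.a6 = 0 ∧ c.b6 = 0 ∧
      c.a7 = 0 ∧ c.a8 = 0 ∧ c.b8 = 0) ⟨rfl, rfl, rfl, rfl, rfl, rfl, rfl, rfl, rfl, rfl⟩ (by
    rintro c d ⟨c1, c2, c3, c4, c5, c6, c7, c8, c9, c10⟩ ⟨d1, d2, d3, d4, d5, d6, d7, d8, d9, d10⟩
    refine ⟨?_, ?_, ?_, ?_, ?_, ?_, ?_, ?_, ?_, ?_⟩ <;>
    simp only [mul_a1, mul_a2, mul_b2, mul_a3, mul_a4, mul_b4, mul_a5, mul_a6, mul_b6, mul_a7, mul_a8, mul_b8,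
      c1, c2, c3, c4, c5, c6, c7, c8, c9, c10, d1, d2, d3, d4, d5, d6, d7, d8, d9, d10,
      zero_mul, mul_zero, add_zero, zero_add, map_zero, pow_zero, ne_eq, OfNat.ofNat_ne_zero, not_false_eq_true, zero_pow])
  have hScard : Nat.card S = (2 ^ (2 * m + 1)) ^ 2 := by
    refine card_of_mask hK T ![false, false, false, false, false, true, true, false, false, false, false, false] (by rfl) S
      fun g => ?_
    rw [hS]
    constructor
    · rintro ⟨z0, z1, z2, z3, z4, z5, z6, z7, z8, z9⟩ i hi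
      fin_cases i <;> first | exact z0 | exact z1 | exact z2 | exact z3 | exact z4 | exact z5 | exact z6 | exact z7 | exact z8 | exact z9 | exact absurd hi (by decide)
    · intro h
      exact ⟨h 0 rfl, h 1 rfl, h 2 rfl, h 3 rfl, h 4 rfl, h 7 rfl, h 8 rfl, h 9 rfl, h 10 rfl, h 11 rfl⟩
  have hSY : S ≤ T.Y := by
    intro g hg
    rw [hS] at hg
    rw [mem_Y hK]
    obtain ⟨z0, z1, z2, z3, z4, z5, z6, z7, z8, z9⟩ := hg
    exact ⟨z0, z1, z2, z3, z4, z5, z7, z8, z9⟩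
  have hx1S : ∀ y ∈ S, T.x1 1 * y = y * T.x1 1 := by
    intro y hy
    rw [hS] at hy
    apply co_injective T
    rw [co_mul hK, co_mul hK, co_x1]
    generalize co T y = c at hy ⊢
    obtain ⟨z0, z1, z2, z3, z4, z5, z6, z7, z8, z9⟩ := hy
    ext <;> simp only [mul_a1, mul_a2, mul_b2, mul_a3, mul_a4, mul_b4, mul_a5, mul_a6, mul_b6, mul_a7, mul_a8, mul_b8,
      e1, z0, z1, z2, z3, z4, z5, z6, z7, z8, z9, zero_mul, mul_zero, add_zero, zero_add, map_zero, pow_zero, ne_eq,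
      OfNat.ofNat_ne_zero, not_false_eq_true, zero_pow]
  have hZ4Y : T.Z4 ≤ T.Y := Z4_le_Y T
  have c1 := relc (N3_le_QB hK T)
  have c2 := relc (le_top : T.N3 ≤ ⊤)
  have c3 := relc hZ4Y
  have c4 := relc hSY
  rw [card_N3 hK, card_QB hK] at c1
  rw [card_N3 hK, Subgroup.card_top, card_U hK T] at c2
  rw [card_Z4 hK, card_Y hK] at c3
  rw [hScard, card_Y hK] at c4
  have hq2 : 2 ≤ 2 ^ (2 * m + 1) := by
    calc 2 = 2 ^ 1 := (pow_one 2).symm
      _ ≤ 2 ^ (2 * m + 1) := Nat.pow_le_pow_right (by norm_num) (by omega)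
  set q := 2 ^ (2 * m + 1) with hq
  have hq0 : 0 < q := by omega
  have d1 : T.N3.relIndex T.QB = q ^ 2 := Nat.eq_of_mul_eq_mul_right (pow_pos hq0 9) (by rw [c1]; ring)
  have d2 : T.N3.relIndex ⊤ = q ^ 3 := Nat.eq_of_mul_eq_mul_right (pow_pos hq0 9) (by rw [c2]; ring)
  have d3 : T.Z4.relIndex T.Y = q ^ 2 := Nat.eq_of_mul_eq_mul_right hq0 (by rw [c3]; ring)
  have d4 : S.relIndex T.Y = q := Nat.eq_of_mul_eq_mul_right (pow_pos hq0 2) (by rw [c4]; ring)
  have hx1 : T.x1 1 ∉ T.N3 := by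
    rw [mem_N3 hK, co_x1]
    rintro ⟨h, -⟩
    exact one_ne_zero h
  have hbot : Inv Γ (⊥ : Subgroup U) := by
    refine ⟨bot_le, fun γ _ e he => ?_⟩
    have h1 : e = 1 := Subtype.ext (Subgroup.mem_bot.1 he)
    rw [h1, map_one]
    exact Subgroup.mem_bot.2 rfl
  have hinvY : Inv Γ T.Y := by
    refine ⟨hY, fun γ _ e he => ?_⟩
    refine mem_Y_of_comm hK T (γ e).2 fun a ha => ?_
    have h1 : e * γ⁻¹ ⟨a, ha⟩ = γ⁻¹ ⟨a, ha⟩ * e := by
      apply Subtype.ext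
      exact (comm_Y hK T (γ⁻¹ ⟨a, ha⟩).2 he).symm
    have h2 := congrArg (fun e : T.N3 => ((γ e : T.N3) : U)) h1
    simp only [map_mul, MulAut.apply_inv_self, Subgroup.coe_mul] at h2
    exact h2
  have key := hsec hE ⊥ T.Y T.QB ⊤ (Subgroup.zpowers (T.x1 1)) T.Z4 S hbot hinvY bot_le
    (fun x hx y hy => Subgroup.mem_bot.2 (by rw [comm_Y hK T hx hy, mul_inv_cancel_right, mul_inv_cancel]))
    (fun y hy => ?_) (fun x _ hx => mem_N3_of_comm hK T fun y hy => ?_) (hnorm _) (fun x hx y hy => comm_QB hK T hx hy)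
    (fun x hx => ?_) (by rw [d1]; nlinarith) (hnorm _) (hnorm _)
    (fun h => hx1 (h (Subgroup.mem_zpowers _))) hZ4Y hSY (fun x _ y hy => ?_) (fun x hx y hy => ?_)
  · rw [d2, d3, d4] at key
    have h1 : q ^ 3 < q ^ 6 := Nat.pow_lt_pow_right (by omega) (by norm_num)
    have h3 : q ^ 6 ≤ q ^ 3 := by
      calc q ^ 6 = (q ^ 3) ^ 2 := by ring
        _ ≤ q ^ 2 * q := key
        _ = q ^ 3 := by ring
    omega
  · -- squares of elements of `Y`
    rw [Subgroup.mem_bot, sq]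
    apply co_injective T
    rw [co_mul hK, co_one]
    rw [mem_Y hK] at hy
    generalize co T y = c at hy ⊢
    obtain ⟨z0, z1, z2, z3, z4, z5, z6, z7, z8⟩ := hy
    ext <;> simp only [mul_a1, mul_a2, mul_b2, mul_a3, mul_a4, mul_b4, mul_a5, mul_a6, mul_b6, mul_a7, mul_a8, mul_b8,
      z0, z1, z2, z3, z4, z5, z6, z7, z8, zero_mul, mul_zero, add_zero, zero_add, map_zero, pow_zero, ne_eq,
      OfNat.ofNat_ne_zero, not_false_eq_true, zero_pow]
    all_goals grind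
  · have h1 := Subgroup.mem_bot.1 (hx y hy)
    rw [mul_inv_eq_one, mul_inv_eq_iff_eq_mul] at h1
    exact h1
  · rw [sq, mem_N3 hK, co_mul hK]
    rw [mem_QB hK] at hx
    refine ⟨?_, ?_, ?_⟩
    · rw [mul_a1, hx, add_zero]
    · rw [mul_a2, hx]; linear_combination (co T x).a2 * h2
    · rw [mul_a8]; linear_combination (co T x).a8 * h2
  · obtain ⟨u, rfl⟩ := (mem_Z4 hK T).1 hy
    rw [comm_Z4 hK T x u, mul_inv_cancel_right, mul_inv_cancel]
    exact Subgroup.mem_bot.2 rfl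
  · obtain ⟨k, rfl⟩ := Subgroup.mem_zpowers_iff.1 hx
    have h1 : Commute (T.x1 1) y := hx1S y hy
    have h3 := (h1.zpow_left k).eq
    rw [h3, mul_inv_cancel_right, mul_inv_cancel]
    exact Subgroup.mem_bot.2 rfl

/-- (B), helper587 -/
def StEssB : Prop :=
  ∀ {K : Type u} [Field K] {σ : K →+* K} {m : ℕ}, HypK σ m → ∀ {U : Type v} [Group U] (T : TF σ U)
    {R : Subgroup U} {Γ : Subgroup (MulAut R)}, Ess (⊤ : Subgroup U) R 2 Γ → T.Y ≤ R → R ≤ T.N3 → ¬ T.A37 ≤ R → False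

theorem stEss3_of (hp2 : StP2.{v}) (hhull : StHull.{v}) (hphi : StPhi.{v}) (hsec : StSecW.{v}) (hB : StEssB.{u, v}) :
    StEss3.{u, v} := by
  intro K _ σ m hK U _ T R Γ hE hY hN
  by_cases hA : T.A37 ≤ R
  · by_cases h : R = T.N3
    · subst h
      exact essC hsec hK T hE
    · exact essA hp2 hhull hphi hK T hE hA hN h
  · exact hB hK T hE hY hN hA

end Cfsg.Agent.H752.TF
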