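import Cfsg.Agent.H745.TF.EssStmts3
import Cfsg.Agent.H752.TF.Ess3
import Cfsg.Agent.H710.GT.EFiveC
import Cfsg.Agent.H218.TE.Basic

/-!
# S5262 (ESS4c): `N3 ≤ R ≤ QB`, `R ≰ N3` gives `R = QB` (helper752)
-/

set_option autoImplicit false
set_option linter.unusedVariables false
set_option linter.unusedSimpArgs false

namespace Cfsg.Agent.H752.TF

open Cfsg Cfsg.FusionSystem Cfsg.Agent.Octagon.Pkg Cfsg.Agent.H745.TF Cfsg.Agent.H756.PU Cfsg.Agent.H802.TE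

universe u v

section

variable {K : Type u} [Field K] {σ : K →+* K} {m : ℕ} (hK : HypK σ m)
variable {U : Type v} [Group U] (T : TF σ U)

include hK

/-- `[QB, N3] ≤ A37`; the `a3`, `a7` coordinates -/
theorem comm_QB_N3 {w n : U} (hw : w ∈ T.QB) (hn : n ∈ T.N3) :
    (co T (w * n * w⁻¹ * n⁻¹)).a1 = 0 ∧ (co T (w * n * w⁻¹ * n⁻¹)).a2 = 0 ∧ (co T (w * n * w⁻¹ * n⁻¹)).b2 = 0 ∧
    (co T (w * n * w⁻¹ * n⁻¹)).a4 = 0 ∧ (co T (w * n * w⁻¹ * n⁻¹)).a6 = 0 ∧ (co T (w * n * w⁻¹ * n⁻¹)).a8 = 0 ∧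
    (co T (w * n * w⁻¹ * n⁻¹)).b8 = 0 ∧
    (co T (w * n * w⁻¹ * n⁻¹)).a3 = (co T n).a4 * (co T w).a2 + (co T n).b2 * (co T w).a8 ∧
    (co T (w * n * w⁻¹ * n⁻¹)).a7 = (co T n).b8 * (co T w).a2 + (co T n).a6 * (co T w).a8 := by
  have h2 := hK.two
  have e : co T (w * n * w⁻¹ * n⁻¹ * (n * w)) = co T (w * n) := by
    congr 1
    group
  rw [co_mul hK T _ (n * w), co_mul hK T n w, co_mul hK T w n] at e
  rw [mem_QB hK] at hw
  rw [mem_N3 hK] at hn
  generalize co T (w * n * w⁻¹ * n⁻¹) = z at e ⊢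
  generalize co T w = c at e hw ⊢
  generalize co T n = d at e hn ⊢
  obtain ⟨d1, d2, d8⟩ := hn
  have f1 := congrArg Cd.a1 e
  simp only [mul_a1, hw, d1, d2, d8, zero_mul, mul_zero, add_zero, zero_add, map_zero] at f1
  have f8 := congrArg Cd.a8 e
  simp only [mul_a8, hw, d1, d2, d8, zero_mul, mul_zero, add_zero, zero_add, map_zero, add_eq_right] at f8
  have g8 := congrArg Cd.b8 e
  simp only [mul_b8, mul_a8, hw, d1, d2, d8, f1, f8, zero_mul, mul_zero, add_zero, zero_add, map_zero] at g8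
  replace g8 : z.b8 = 0 := by linear_combination g8
  have f2 := congrArg Cd.a2 e
  simp only [mul_a2, mul_a1, hw, d1, d2, d8, f1, f8, g8, zero_mul, mul_zero, add_zero, zero_add, map_zero,
    add_eq_right] at f2
  have f4 := congrArg Cd.a4 e
  simp only [mul_a4, mul_a2, mul_a1, hw, d1, d2, d8, f1, f8, g8, f2, zero_mul, mul_zero, add_zero, zero_add,
    map_zero] at f4
  replace f4 : z.a4 = 0 := by linear_combination f4
  have f6 := congrArg Cd.a6 e
  simp only [mul_a6, mul_a4, mul_a2, mul_a1, hw, d1, d2, d8, f1, f8, g8, f2, f4, zero_mul, mul_zero, add_zero, zero_add,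
    map_zero] at f6
  replace f6 : z.a6 = 0 := by linear_combination f6
  have g2 := congrArg Cd.b2 e
  simp only [mul_b2, mul_a6, mul_a4, mul_a2, mul_a1, hw, d1, d2, d8, f1, f8, g8, f2, f4, f6, zero_mul, mul_zero, add_zero,
    zero_add, map_zero, pow_zero, ne_eq, OfNat.ofNat_ne_zero, not_false_eq_true, zero_pow] at g2
  replace g2 : z.b2 = 0 := by linear_combination g2
  have f7 := congrArg Cd.a7 e
  simp only [mul_a7, mul_b8, mul_a8, mul_a6, mul_a4, mul_a2, mul_a1, hw, d1, d2, d8, f1, f8, g8, f2, f4, f6, g2, zero_mul,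
    mul_zero, add_zero, zero_add, map_zero, pow_zero, ne_eq, OfNat.ofNat_ne_zero, not_false_eq_true, zero_pow] at f7
  have f3 := congrArg Cd.a3 e
  simp only [mul_a3, mul_b2, mul_b8, mul_a8, mul_a7, mul_a6, mul_a4, mul_a2, mul_a1, hw, d1, d2, d8, f1, f8, g8, f2, f4, f6,
    g2, zero_mul, mul_zero, add_zero, zero_add, map_zero, pow_zero, ne_eq, OfNat.ofNat_ne_zero, not_false_eq_true,
    zero_pow] at f3
  refine ⟨f1, f2, g2, f4, f6, f8, g8, ?_, ?_⟩
  · grind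
  · grind

/-- `[QB, A37] ≤ Y` -/
theorem comm_QB_A37 {w n : U} (hw : w ∈ T.QB) (hn : n ∈ T.A37) : w * n * w⁻¹ * n⁻¹ ∈ T.Y := by
  have h2 := hK.two
  have e : co T (w * n * w⁻¹ * n⁻¹ * (n * w)) = co T (w * n) := by
    congr 1
    group
  rw [co_mul hK T _ (n * w), co_mul hK T n w, co_mul hK T w n] at e
  rw [mem_QB hK] at hw
  rw [mem_A37 hK] at hn
  rw [mem_Y hK]
  generalize co T (w * n * w⁻¹ * n⁻¹) = z at e ⊢
  generalize co T w = c at e hw ⊢
  generalize co T n = d at e hn ⊢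
  obtain ⟨d1, d2, d3, d4, d6, d8, d9⟩ := hn
  have f1 := congrArg Cd.a1 e
  simp only [mul_a1, hw, d1, d2, d3, d4, d6, d8, d9, zero_mul, mul_zero, add_zero, zero_add, map_zero] at f1
  have f8 := congrArg Cd.a8 e
  simp only [mul_a8, hw, d1, d2, d3, d4, d6, d8, d9, zero_mul, mul_zero, add_zero, zero_add, map_zero, add_eq_right] at f8
  have g8 := congrArg Cd.b8 e
  simp only [mul_b8, mul_a8, hw, d1, d2, d3, d4, d6, d8, d9, f1, f8, zero_mul, mul_zero, add_zero, zero_add, map_zero,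
    add_eq_right] at g8
  have f2 := congrArg Cd.a2 e
  simp only [mul_a2, mul_a1, hw, d1, d2, d3, d4, d6, d8, d9, f1, f8, g8, zero_mul, mul_zero, add_zero, zero_add, map_zero,
    add_eq_right] at f2
  have f4 := congrArg Cd.a4 e
  simp only [mul_a4, mul_a2, mul_a1, hw, d1, d2, d3, d4, d6, d8, d9, f1, f8, g8, f2, zero_mul, mul_zero, add_zero, zero_add,
    map_zero, add_eq_right] at f4
  have f6 := congrArg Cd.a6 e
  simp only [mul_a6, mul_a4, mul_a2, mul_a1, hw, d1, d2, d3, d4, d6, d8, d9, f1, f8, g8, f2, f4, zero_mul, mul_zero, add_zero,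
    zero_add, map_zero, add_eq_right] at f6
  have g2 := congrArg Cd.b2 e
  simp only [mul_b2, mul_a6, mul_a4, mul_a2, mul_a1, hw, d1, d2, d3, d4, d6, d8, d9, f1, f8, g8, f2, f4, f6, zero_mul, mul_zero,
    add_zero, zero_add, map_zero, pow_zero, ne_eq, OfNat.ofNat_ne_zero, not_false_eq_true, zero_pow, add_eq_right] at g2
  have f7 := congrArg Cd.a7 e
  simp only [mul_a7, mul_b8, mul_a8, mul_a6, mul_a4, mul_a2, mul_a1, hw, d1, d2, d3, d4, d6, d8, d9, f1, f8, g8, f2, f4, f6,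
    g2, zero_mul, mul_zero, add_zero, zero_add, map_zero, pow_zero, ne_eq, OfNat.ofNat_ne_zero, not_false_eq_true,
    zero_pow] at f7
  replace f7 : z.a7 = 0 := by linear_combination f7
  have f3 := congrArg Cd.a3 e
  simp only [mul_a3, mul_b2, mul_b8, mul_a8, mul_a7, mul_a6, mul_a4, mul_a2, mul_a1, hw, d1, d2, d3, d4, d6, d8, d9, f1, f8,
    g8, f2, f4, f6, f7, g2, zero_mul, mul_zero, add_zero, zero_add, map_zero, pow_zero, ne_eq, OfNat.ofNat_ne_zero,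
    not_false_eq_true, zero_pow] at f3
  replace f3 : z.a3 = 0 := by linear_combination f3
  exact ⟨f1, f2, g2, f3, f4, f6, f7, f8, g8⟩

/-- `[QB, Y]` -/
theorem comm_QB_Y {w y : U} (hw : w ∈ T.QB) (hy : y ∈ T.Y) :
    co T (w * y * w⁻¹ * y⁻¹) =
      ⟨0, 0, 0, 0, 0, (co T w).a2 * (co T y).a5, 0, 0, (co T w).a8 * (co T y).a5, 0, 0, 0⟩ := by
  have h2 := hK.two
  apply co_comm hK
  rw [mem_QB hK] at hw
  rw [mem_Y hK] at hy
  generalize co T w = c at hw ⊢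
  generalize co T y = d at hy ⊢
  obtain ⟨d1, d2, d3, d4, d5, d6, d7, d8, d9⟩ := hy
  ext <;> simp only [mul_a1, mul_a2, mul_b2, mul_a3, mul_a4, mul_b4, mul_a5, mul_a6, mul_b6, mul_a7, mul_a8, mul_b8,
    hw, d1, d2, d3, d4, d5, d6, d7, d8, d9, zero_mul, mul_zero, add_zero, zero_add, map_zero, pow_zero, ne_eq,
    OfNat.ofNat_ne_zero, not_false_eq_true, zero_pow]
  all_goals first | ring1 | grind

/-- the `a5`-coordinate of `[n, n']` for `n, n' ∈ N3` -/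
theorem comm_N3_a5 {n n' : U} (hn : n ∈ T.N3) (hn' : n' ∈ T.N3) :
    (co T (n * n' * n⁻¹ * n'⁻¹)).a5 = (co T n).a6 * (co T n').a4 + (co T n).a4 * (co T n').a6 +
      (co T n).b8 * (co T n').b2 + (co T n).b2 * (co T n').b8 := by
  have h2 := hK.two
  have hz := comm_N3 hK T hn hn'
  have e : co T (n * n' * n⁻¹ * n'⁻¹ * (n' * n)) = co T (n * n') := by
    congr 1
    group
  rw [co_mul hK T _ (n' * n), co_mul hK T n' n, co_mul hK T n n'] at e
  rw [mem_N3 hK] at hn hn'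
  rw [mem_Y hK] at hz
  generalize co T (n * n' * n⁻¹ * n'⁻¹) = z at e hz ⊢
  generalize co T n = c at e hn ⊢
  generalize co T n' = d at e hn' ⊢
  obtain ⟨c1, c2, c8⟩ := hn
  obtain ⟨d1, d2, d8⟩ := hn'
  obtain ⟨z1, z2, z3, z4, z5, z6, z7, z8, z9⟩ := hz
  have f5 := congrArg Cd.a5 e
  simp only [mul_a5, mul_b2, mul_a3, mul_a7, mul_b8, mul_a8, mul_a6, mul_a4, mul_a2, mul_a1, c1, c2, c8, d1, d2, d8,
    z1, z2, z3, z4, z5, z6, z7, z8, z9, zero_mul, mul_zero, add_zero, zero_add, map_zero, pow_zero, ne_eq,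
    OfNat.ofNat_ne_zero, not_false_eq_true, zero_pow] at f5
  grind

/-- `[n, N3] ≤ V` only for `n ∈ A37` -/
theorem mem_A37_of_commV {n : U} (hn : n ∈ T.N3) (h : ∀ a ∈ T.N3, n * a * n⁻¹ * a⁻¹ ∈ T.V) : n ∈ T.A37 := by
  have key : ∀ a ∈ T.N3, (co T n).a6 * (co T a).a4 + (co T n).a4 * (co T a).a6 +
      (co T n).b8 * (co T a).b2 + (co T n).b2 * (co T a).b8 = 0 := by
    intro a ha
    rw [← comm_N3_a5 hK T hn ha]
    exact ((mem_V hK T).1 (h a ha)).2.2.2.2.2.1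
  have k4 := key _ (X4_le_N3 T (x4_mem T 1 0))
  have k6 := key _ (X6_le_N3 T (x6_mem T 1 0))
  have k2 := key _ (Z2_le_N3 T (x2_mem_Z T 1))
  have k8 := key _ (Z8_le_N3 T (x8_mem_Z T 1))
  simp only [co_x2, co_x4, co_x6, co_x8, e2, e4, e6, e8, mul_one, mul_zero, add_zero, zero_add] at k2 k4 k6 k8
  rw [mem_N3 hK] at hn
  rw [mem_A37 hK]
  exact ⟨hn.1, hn.2.1, k8, k6, k4, hn.2.2, k2⟩

end

theorem stEss4c_of (hch : StCh.{v}) : StEss4c.{u, v} := by
  intro K _ σ m hK U _ T R Γ hE hNR hRQ hRN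
  have := finite_U hK T
  have := hK.fin
  by_contra hne
  have hYN := Y_le_N3 hK T
  have hAN := A37_le_N3 hK T
  have hYR : T.Y ≤ R := hYN.trans hNR
  have hVY := V_le_Y hK T
  have iR : Inv Γ R := H710.GT.inv_self Γ
  obtain ⟨w, hw, hwN⟩ := SetLike.not_le_iff_exists.1 hRN
  have hwQ := hRQ hw
  have hw0 : (co T w).a2 ≠ 0 ∨ (co T w).a8 ≠ 0 := by
    by_contra hh
    push Not at hh
    exact hwN ((mem_N3 hK T).2 ⟨(mem_QB hK T).1 hwQ, hh.1, hh.2⟩)
  -- `[QB, Y] ≤ V`, `[QB, V] = 1`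
  have cQY : ∀ x ∈ T.QB, ∀ y ∈ T.Y, x * y * x⁻¹ * y⁻¹ ∈ T.V := by
    intro x hx y hy
    rw [mem_V hK, comm_QB_Y hK T hx hy]
    exact ⟨rfl, rfl, rfl, rfl, rfl, rfl, rfl, rfl, rfl, rfl⟩
  have cQV : ∀ x ∈ T.QB, ∀ z ∈ T.V, x * z = z * x := by
    intro x hx z hz
    refine H710.GT.cm_one.1 (Subgroup.mem_bot.2 ?_)
    apply co_injective T
    rw [comm_QB_Y hK T hx (hVY hz), co_one]
    rw [mem_V hK] at hz
    rw [hz.2.2.2.2.2.1, mul_zero, mul_zero]
  -- `V = Z(R)`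
  have iV : Inv Γ T.V := by
    refine H710.GT.inv_cent iR iR (H710.GT.inv_bot Γ) fun z => ⟨fun hz => ?_, fun hz => ?_⟩
    · exact ⟨hYR (hVY hz), fun x hx => H710.GT.cm_one.2 (cQV x (hRQ hx) z hz).symm⟩
    · obtain ⟨hzR, hc⟩ := hz
      have hc' : ∀ x ∈ R, z * x = x * z := fun x hx => H710.GT.cm_one.1 (hc x hx)
      have hzN : z ∈ T.N3 := mem_N3_of_comm hK T fun y hy => hc' y (hYR hy)
      have hzY : z ∈ T.Y := mem_Y_of_comm hK T hzN fun n hn => hc' n (hNR hn)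
      have h1 : w * z * w⁻¹ * z⁻¹ = 1 := by rw [← hc' w hw, mul_inv_cancel_right, mul_inv_cancel]
      have h2 := comm_QB_Y hK T hwQ hzY
      rw [h1, co_one] at h2
      have h3 := (congrArg Cd.b4 h2).symm
      have h4 := (congrArg Cd.b6 h2).symm
      have h5 : (co T z).a5 = 0 := by
        rcases hw0 with h | h
        · exact (mul_eq_zero.1 h3).resolve_left h
        · exact (mul_eq_zero.1 h4).resolve_left h
      rw [mem_Y hK] at hzY
      rw [mem_V hK]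
      exact ⟨hzY.1, hzY.2.1, hzY.2.2.1, hzY.2.2.2.1, hzY.2.2.2.2.1, h5, hzY.2.2.2.2.2.1, hzY.2.2.2.2.2.2.1,
        hzY.2.2.2.2.2.2.2.1, hzY.2.2.2.2.2.2.2.2⟩
  -- `Y` is invariant
  have iY : Inv Γ T.Y := by
    refine ⟨hYR, fun γ hγ e he => ?_⟩
    set y : U := ((γ e : R) : U) with hy
    have hyR : y ∈ R := (γ e).2
    have hcV : ∀ x ∈ R, x * y * x⁻¹ * y⁻¹ ∈ T.V := by
      intro x hx
      have h1 := cQY _ (hRQ (γ⁻¹ ⟨x, hx⟩).2) _ he
      have h2 := iV.2 γ hγ (γ⁻¹ ⟨x, hx⟩ * e * (γ⁻¹ ⟨x, hx⟩)⁻¹ * e⁻¹) h1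
      rw [map_mul, map_mul, map_mul, map_inv, map_inv, MulAut.apply_inv_self] at h2
      exact h2
    have hcV' : ∀ x ∈ R, y * x * y⁻¹ * x⁻¹ ∈ T.V := by
      intro x hx
      have h1 := T.V.inv_mem (hcV x hx)
      have h2 : (x * y * x⁻¹ * y⁻¹)⁻¹ = y * x * y⁻¹ * x⁻¹ := by group
      rwa [h2] at h1
    have hyN : y ∈ T.N3 := by
      have hyQ := hRQ hyR
      have k1 := (comm_QB_N3 hK T hyQ (X4_le_N3 T (x4_mem T 1 0))).2.2.2.2.2.2.2.1
      have k2 := (comm_QB_N3 hK T hyQ (X6_le_N3 T (x6_mem T 1 0))).2.2.2.2.2.2.2.2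
      rw [((mem_V hK T).1 (hcV' _ (hNR (X4_le_N3 T (x4_mem T 1 0))))).2.2.2.1] at k1
      rw [((mem_V hK T).1 (hcV' _ (hNR (X6_le_N3 T (x6_mem T 1 0))))).2.2.2.2.2.2.2.1] at k2
      simp only [co_x4, co_x6, e4, e6, one_mul, zero_mul, add_zero, zero_add] at k1 k2
      exact (mem_N3 hK T).2 ⟨(mem_QB hK T).1 hyQ, k1.symm, k2.symm⟩
    have hyA : y ∈ T.A37 := mem_A37_of_commV hK T hyN fun a ha => hcV' a (hNR ha)
    by_contra hyY
    have h37 : (co T y).a3 ≠ 0 ∨ (co T y).a7 ≠ 0 := by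
      by_contra hh
      push Not at hh
      apply hyY
      rw [mem_A37 hK] at hyA
      rw [mem_Y hK]
      exact ⟨hyA.1, hyA.2.1, hyA.2.2.1, hh.1, hyA.2.2.2.1, hyA.2.2.2.2.1, hh.2, hyA.2.2.2.2.2.1, hyA.2.2.2.2.2.2⟩
    obtain ⟨nn, hnn, hnc⟩ : ∃ nn : K → K → U, (∀ u v, nn u v ∈ T.N3) ∧
        ∀ u v, co T (nn u v * y * (nn u v)⁻¹ * y⁻¹) = ⟨0, 0, 0, 0, 0, u, 0, 0, v, 0, 0, 0⟩ := by
      rcases h37 with h | h
      · have h1 : ∀ u v, T.x6 (u / (co T y).a3) 0 * T.x8 0 (v / (co T y).a3) ∈ T.N3 := fun u v =>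
          mul_mem (X6_le_N3 T (x6_mem T _ _)) (Z8_le_N3 T (x8_mem_Z T _))
        refine ⟨fun u v => T.x6 (u / (co T y).a3) 0 * T.x8 0 (v / (co T y).a3), h1, fun u v => ?_⟩
        rw [comm_N3_A37 hK T (h1 u v) hyA]
        simp only [co_mul hK, co_x6, co_x8, e6, e8, mul_a6, mul_b2, mul_b8, mul_a4, mul_zero, zero_mul, add_zero, zero_add,
          map_zero, div_mul_cancel₀ _ h]
      · have h1 : ∀ u v, T.x2 0 (u / (co T y).a7) * T.x4 (v / (co T y).a7) 0 ∈ T.N3 := fun u v =>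
          mul_mem (Z2_le_N3 T (x2_mem_Z T _)) (X4_le_N3 T (x4_mem T _ _))
        refine ⟨fun u v => T.x2 0 (u / (co T y).a7) * T.x4 (v / (co T y).a7) 0, h1, fun u v => ?_⟩
        rw [comm_N3_A37 hK T (h1 u v) hyA]
        simp only [co_mul hK, co_x2, co_x4, e2, e4, mul_a6, mul_b2, mul_b8, mul_a4, mul_zero, zero_mul, add_zero, zero_add,
          map_zero, div_mul_cancel₀ _ h]
    -- counting
    have hγy : ∀ n (hn : n ∈ T.N3), ((γ ⟨n, hNR hn⟩ : R) : U) * y = y * ((γ ⟨n, hNR hn⟩ : R) : U) := by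
      intro n hn
      have h1 : (⟨n, hNR hn⟩ : R) * e = e * ⟨n, hNR hn⟩ := Subtype.ext (comm_Y hK T hn he)
      have h2 := congrArg (fun z : R => ((γ z : R) : U)) h1
      simp only [map_mul, Subgroup.coe_mul] at h2
      exact h2
    have hinj : Function.Injective (fun x : T.N3 × K × K => (γ ⟨x.1, hNR x.1.2⟩ * ⟨nn x.2.1 x.2.2, hNR (hnn _ _)⟩ : R)) := by
      rintro ⟨⟨n, hn⟩, u, v⟩ ⟨⟨n', hn'⟩, u', v'⟩ h
      simp only at h
      have key : ∀ (n : U) (hn : n ∈ T.N3) (u v : K),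
          ((γ ⟨n, hNR hn⟩ : R) : U) * nn u v * y * (((γ ⟨n, hNR hn⟩ : R) : U) * nn u v)⁻¹ =
            (nn u v * y * (nn u v)⁻¹ * y⁻¹) * y := by
        intro n hn u v
        set g := ((γ ⟨n, hNR hn⟩ : R) : U)
        have hg : g ∈ T.QB := hRQ (γ ⟨n, hNR hn⟩).2
        have h1 := cQV g hg _ (hcV _ (hNR (hnn u v)))
        have h2 : g * nn u v * y * (g * nn u v)⁻¹ =
            (g * (nn u v * y * (nn u v)⁻¹ * y⁻¹)) * y * g⁻¹ := by group
        have h3 : g * y = y * g := hγy n hn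
        rw [h2, h1, mul_assoc _ g y, h3, ← mul_assoc _ y g, mul_inv_cancel_right]
      have h1 : ((γ ⟨n, hNR hn⟩ : R) : U) * nn u v = ((γ ⟨n', hNR hn'⟩ : R) : U) * nn u' v' :=
        congrArg (Subtype.val) h
      have h2 := key n hn u v
      rw [h1, key n' hn' u' v', mul_left_inj] at h2
      have h3 := congrArg (co T) h2
      rw [hnc, hnc] at h3
      have hu : u' = u := congrArg Cd.b4 h3
      have hv : v' = v := congrArg Cd.b6 h3
      subst hu hv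
      have h4 := γ.injective (Subtype.ext (mul_right_cancel h1) : γ ⟨n, hNR hn⟩ = γ ⟨n', hNR hn'⟩)
      have h5 : n = n' := congrArg Subtype.val h4
      subst h5
      rfl
    have hcard := Nat.card_le_card_of_injective _ hinj
    rw [Nat.card_prod, Nat.card_prod, card_N3 hK, hK.card] at hcard
    apply hne
    apply Subgroup.eq_of_le_of_card_ge hRQ
    rw [card_QB hK]
    calc (2 ^ (2 * m + 1)) ^ 11 = (2 ^ (2 * m + 1)) ^ 9 * (2 ^ (2 * m + 1) * 2 ^ (2 * m + 1)) := by ring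
      _ ≤ Nat.card R := hcard
  -- `N3`
  have iN : Inv Γ T.N3 := by
    refine H710.GT.inv_cent iR iY (H710.GT.inv_bot Γ) fun n => ⟨fun hn => ?_, fun hn => ?_⟩
    · exact ⟨hNR hn, fun y hy => H710.GT.cm_one.2 (comm_Y hK T hn hy)⟩
    · exact mem_N3_of_comm hK T fun y hy => H710.GT.cm_one.1 (hn.2 y hy)
  -- `A37`
  have iA : Inv Γ T.A37 := by
    refine H710.GT.inv_cent iN iN iV fun n => ⟨fun hn => ?_, fun hn => ?_⟩
    · refine ⟨hAN hn, fun a ha => ?_⟩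
      have h1 : a * n * a⁻¹ * n⁻¹ ∈ T.V := by
        rw [mem_V hK, comm_N3_A37 hK T ha hn]
        exact ⟨rfl, rfl, rfl, rfl, rfl, rfl, rfl, rfl, rfl, rfl⟩
      have h2 := T.V.inv_mem h1
      have h3 : (a * n * a⁻¹ * n⁻¹)⁻¹ = n * a * n⁻¹ * a⁻¹ := by group
      rwa [h3] at h2
    · exact mem_A37_of_commV hK T hn.1 hn.2
  -- the chain
  have hle : T.QB ≤ R := by
    refine hch hE 5 (fun i => match i with | 0 => ⊥ | 1 => T.V | 2 => T.Y | 3 => T.A37 | 4 => T.N3 | _ => R) bot_le rfl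
      ?_ ?_ T.QB le_top ?_
    · intro i hi
      interval_cases i
      · exact H710.GT.inv_bot Γ
      · exact iV
      · exact iY
      · exact iA
      · exact iN
      · exact iR
    · intro i hi
      interval_cases i
      · exact bot_le
      · exact hVY
      · exact Y_le_A37 hK T
      · exact hAN
      · exact hNR
    · intro i hi
      interval_cases i
      · intro x hx z hz
        exact H710.GT.cm_one.2 (cQV x hx z hz)
      · exact cQY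
      · intro x hx a ha
        exact comm_QB_A37 hK T hx ha
      · intro x hx n hn
        obtain ⟨h1, h2, h3, h4, h5, h6, h7, -, -⟩ := comm_QB_N3 hK T hx hn
        exact (mem_A37 hK T).2 ⟨h1, h2, h3, h4, h5, h6, h7⟩
      · intro x hx r hr
        exact comm_QB hK T hx (hRQ hr)
  exact hne (le_antisymm hRQ hle)

/-- (ESS4c) -/
theorem stEss4c : StEss4c.{u, v} := stEss4c_of H218.TE.stCh

end Cfsg.Agent.H752.TF
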