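import Cfsg.Agent.H745.TF.Def
import Cfsg.Agent.H659.TF.Ump
import Cfsg.Agent.H181.TF.Mul

/-!
# S5262, task TF-CO: the named subgroups of the unipotent group of `²F₄(q)` in coordinates (helper752)

`co T : U → Cd K` is the inverse of `T.el`. For every named subgroup `N` (and every root group):
`mem_N : g ∈ T.N ↔ (some coordinates of g vanish)`, `el_mem_N`, `N_iff` (ordered products), `card_N`, `N_normal`.
-/

set_option autoImplicit false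
set_option linter.unusedVariables false
set_option linter.unusedSimpArgs false

namespace Cfsg.Agent.H752.TF

open Cfsg.Agent.Octagon.Pkg Cfsg.Agent.H745.TF

universe u v

section Cd

variable {K : Type u} [Field K]

/-- the coordinates of the root elements -/
def e1 (t : K) : Cd K := ⟨t, 0, 0, 0, 0, 0, 0, 0, 0, 0, 0, 0⟩
def e2 (p u : K) : Cd K := ⟨0, p, u, 0, 0, 0, 0, 0, 0, 0, 0, 0⟩
def e3 (t : K) : Cd K := ⟨0, 0, 0, t, 0, 0, 0, 0, 0, 0, 0, 0⟩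
def e4 (p u : K) : Cd K := ⟨0, 0, 0, 0, p, u, 0, 0, 0, 0, 0, 0⟩
def e5 (t : K) : Cd K := ⟨0, 0, 0, 0, 0, 0, t, 0, 0, 0, 0, 0⟩
def e6 (p u : K) : Cd K := ⟨0, 0, 0, 0, 0, 0, 0, p, u, 0, 0, 0⟩
def e7 (t : K) : Cd K := ⟨0, 0, 0, 0, 0, 0, 0, 0, 0, t, 0, 0⟩
def e8 (p u : K) : Cd K := ⟨0, 0, 0, 0, 0, 0, 0, 0, 0, 0, p, u⟩

/-- coordinates as functions -/
def toFn (c : Cd K) : Fin 12 → K := ![c.a1, c.a2, c.b2, c.a3, c.a4, c.b4, c.a5, c.a6, c.b6, c.a7, c.a8, c.b8]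

/-- `Cd K ≃ K^12` -/
def cdEquiv : Cd K ≃ (Fin 12 → K) where
  toFun := toFn
  invFun f := ⟨f 0, f 1, f 2, f 3, f 4, f 5, f 6, f 7, f 8, f 9, f 10, f 11⟩
  left_inv c := rfl
  right_inv f := by
    funext i
    fin_cases i <;> rfl

/-- the coordinate vectors supported on a mask -/
def maskEquiv (M : Fin 12 → Bool) : {c : Cd K // ∀ i, M i = false → toFn c i = 0} ≃ ({i // M i = true} → K) where
  toFun c i := toFn c.1 i
  invFun f := ⟨cdEquiv.symm fun i => if h : M i = true then f ⟨i, h⟩ else 0, by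
    intro i hi
    change cdEquiv (cdEquiv.symm _) i = 0
    rw [Equiv.apply_symm_apply, dif_neg (by rw [hi]; decide)]⟩
  left_inv c := by
    refine Subtype.ext ?_
    refine (Equiv.symm_apply_eq _).2 ?_
    funext i
    change _ = toFn c.1 i
    by_cases h : M i = true
    · rw [dif_pos h]
    · rw [dif_neg h, c.2 i (by simpa using h)]
  right_inv f := by
    funext i
    change cdEquiv (cdEquiv.symm _) i.1 = f i
    rw [Equiv.apply_symm_apply, dif_pos i.2]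

theorem card_mask (M : Fin 12 → Bool) :
    Nat.card {c : Cd K // ∀ i, M i = false → toFn c i = 0} = Nat.card K ^ Fintype.card {i // M i = true} := by
  rw [Nat.card_congr (maskEquiv M), Nat.card_fun, Nat.card_eq_fintype_card (α := {i // M i = true})]

variable (σ : K →+* K) (c d : Cd K)

theorem mul_a1 : (H181.TF.mul σ c d).a1 =
    c.a1 + d.a1 := rfl

theorem mul_a2 : (H181.TF.mul σ c d).a2 =
    c.a2 + d.a2 + c.a8 * d.a1 := rfl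

theorem mul_b2 : (H181.TF.mul σ c d).b2 =
    c.b2 + d.b2 + c.a2 * σ d.a2 + c.a4 * d.a1 + c.a6 * σ d.a1 + c.a2 * σ c.a8 * σ d.a1 + c.a8 * d.a1 * σ d.a2 + c.b8 *
       d.a1 * σ d.a1 := rfl

theorem mul_a3 : (H181.TF.mul σ c d).a3 =
    c.a3 + d.a3 + c.a4 * d.a2 + σ c.a6 * d.a1 + c.a7 * σ d.a1 + c.a8 * d.b2 + c.a4 * c.a8 * d.a1 + c.a8 * d.a2 * σ d.a2
       + σ c.b8 * d.a1 * σ d.a1 + c.b8 * σ d.a1 * d.a2 + c.a8 * c.b8 * d.a1 * σ d.a1 + c.a8 ^ 2 * σ c.a8 * d.a1 * σ d.a1 := rfl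

theorem mul_a4 : (H181.TF.mul σ c d).a4 =
    c.a4 + d.a4 + c.a8 * σ d.a2 + c.b8 * σ d.a1 := rfl

theorem mul_b4 : (H181.TF.mul σ c d).b4 =
    c.b4 + d.b4 + c.a4 * σ d.a4 + c.a5 * d.a2 + c.a6 * d.a3 + c.a7 * d.b2 + c.a8 * σ d.a3 + c.b6 * d.a1 + c.b8 * σ d.b2
       + c.a5 * c.a8 * d.a1 + c.a6 * c.a7 * σ d.a1 + c.a6 * c.a8 * d.b2 + σ c.a7 * d.a1 * d.a2 + c.a7 * d.a2 * σ d.a2 + σ
       c.a8 * d.a2 * d.a3 + c.a8 * σ d.a2 * σ d.a4 + σ c.b8 * d.a1 * d.b2 + c.b8 * σ d.a1 * σ d.a4 + c.b8 * d.a1 * d.a3 +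
       c.b8 * d.a2 * d.b2 + c.a4 * σ c.a8 * d.a2 ^ 2 + c.a4 * σ c.b8 * d.a1 ^ 2 + c.a6 * c.a8 * d.a2 * σ d.a2 + c.a6 * σ
       c.b8 * d.a1 * σ d.a1 + c.a6 * c.b8 * σ d.a1 * d.a2 + σ c.a7 * c.a8 * d.a1 ^ 2 + c.a7 * σ c.a8 * σ d.a1 * d.a2 + c.a7
       * c.b8 * d.a1 * σ d.a1 + c.a8 * σ c.a8 * d.a1 * d.a3 + c.a8 * σ c.a8 * d.a2 * d.b2 + σ c.b8 * d.a1 * d.a2 * σ d.a2 +
       c.b8 * d.a2 ^ 2 * σ d.a2 + c.a6 * c.a8 * c.b8 * d.a1 * σ d.a1 + c.a7 * c.a8 * σ c.a8 * d.a1 * σ d.a1 + σ c.a8 * σ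
       c.b8 * d.a1 * σ d.a1 * d.a2 + σ c.a8 * c.b8 * σ d.a1 * d.a2 ^ 2 + c.a8 * σ c.a8 * d.a2 ^ 2 * σ d.a2 + c.b8 * σ c.b8
       * d.a1 ^ 2 * σ d.a1 + c.b8 ^ 2 * d.a1 * σ d.a1 * d.a2 + c.a6 * c.a8 ^ 2 * σ c.a8 * d.a1 * σ d.a1 + c.a8 * c.b8 ^ 2 *
       d.a1 ^ 2 * σ d.a1 + c.a8 * σ c.a8 * σ c.b8 * d.a1 ^ 2 * σ d.a1 + c.a8 ^ 2 * (σ c.a8) ^ 2 * d.a1 * σ d.a1 * d.a2 +
       c.a8 ^ 3 * (σ c.a8) ^ 2 * d.a1 ^ 2 * σ d.a1 := rfl

theorem mul_a5 : (H181.TF.mul σ c d).a5 =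
    c.a5 + d.a5 + c.a6 * d.a4 + σ c.a7 * d.a1 + c.a7 * σ d.a2 + σ c.a8 * d.a3 + c.b8 * d.b2 + c.a6 * c.a8 * σ d.a2 +
       c.a6 * c.b8 * σ d.a1 + c.a7 * σ c.a8 * σ d.a1 + σ c.a8 * d.a2 * d.a4 + c.a8 * σ c.a8 * d.b2 + σ c.b8 * d.a1 * σ d.a2
       + c.b8 * d.a1 * d.a4 + σ c.a8 * σ c.b8 * d.a1 * σ d.a1 + c.a8 * σ c.a8 * d.a1 * d.a4 + c.b8 ^ 2 * d.a1 * σ d.a1 +
       c.a8 ^ 2 * (σ c.a8) ^ 2 * d.a1 * σ d.a1 := rfl

theorem mul_a6 : (H181.TF.mul σ c d).a6 =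
    c.a6 + d.a6 + σ c.a8 * d.a2 + c.b8 * d.a1 + c.a8 * σ c.a8 * d.a1 := rfl

theorem mul_b6 : (H181.TF.mul σ c d).b6 =
    c.b6 + d.b6 + c.a6 * σ d.a6 + σ c.a7 * d.a2 + c.a7 * d.a4 + c.a8 * d.a5 + σ c.b8 * d.b2 + c.b8 * d.a3 + c.a6 * σ
       c.b8 * σ d.a1 + σ c.a7 * c.a8 * d.a1 + c.a7 * c.a8 * σ d.a2 + c.a7 * c.b8 * σ d.a1 + σ c.a8 * d.a2 * σ d.a6 + c.a8 *
       c.b8 * d.b2 + σ c.b8 * d.a1 * d.a4 + σ c.b8 * d.a2 * σ d.a2 + c.b8 * d.a1 * σ d.a6 + c.b8 * d.a2 * d.a4 + c.a6 *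
       c.a8 ^ 2 * σ d.a2 + σ c.a8 * σ c.b8 * σ d.a1 * d.a2 + c.a8 * σ c.b8 * d.a1 * σ d.a2 + c.a8 * c.b8 * d.a1 * d.a4 +
       c.a8 * σ c.a8 * d.a1 * σ d.a6 + c.a8 ^ 2 * σ c.a8 * d.b2 + c.b8 ^ 2 * σ d.a1 * d.a2 + c.a6 * c.a8 ^ 2 * σ c.a8 * σ
       d.a1 + c.a8 * c.b8 ^ 2 * d.a1 * σ d.a1 + c.a8 * σ c.a8 * σ c.b8 * d.a1 * σ d.a1 + c.a8 ^ 2 * σ c.a8 * d.a1 * d.a4 +
       c.a8 ^ 2 * (σ c.a8) ^ 2 * σ d.a1 * d.a2 + c.a8 ^ 3 * (σ c.a8) ^ 2 * d.a1 * σ d.a1 := rfl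

theorem mul_a7 : (H181.TF.mul σ c d).a7 =
    c.a7 + d.a7 + c.a8 * d.a6 + σ c.b8 * d.a1 + c.b8 * d.a2 + c.a8 * c.b8 * d.a1 + c.a8 ^ 2 * σ c.a8 * d.a1 := rfl

theorem mul_a8 : (H181.TF.mul σ c d).a8 =
    c.a8 + d.a8 := rfl

theorem mul_b8 : (H181.TF.mul σ c d).b8 =
    c.b8 + d.b8 + c.a8 * σ d.a8 := rfl

theorem minv_a1 : (H181.TF.minv σ c).a1 =
    c.a1 := rfl

theorem minv_a2 : (H181.TF.minv σ c).a2 =
    c.a2 + c.a1 * c.a8 := rfl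

theorem minv_b2 : (H181.TF.minv σ c).b2 =
    c.b2 + σ c.a1 * c.a6 + c.a1 * c.a4 + c.a2 * σ c.a2 + c.a1 * σ c.a2 * c.a8 + c.a1 * σ c.a1 * c.b8 + c.a1 * σ c.a1 *
       c.a8 * σ c.a8 := rfl

theorem minv_a3 : (H181.TF.minv σ c).a3 =
    c.a3 + σ c.a1 * c.a7 + c.a1 * σ c.a6 + c.a2 * c.a4 + c.a8 * c.b2 + σ c.a1 * c.a2 * c.b8 + σ c.a1 * c.a6 * c.a8 +
       c.a1 * c.a4 * c.a8 + c.a1 * σ c.a1 * σ c.b8 + σ c.a1 * c.a2 * c.a8 * σ c.a8 + c.a1 * σ c.a1 * c.a8 * c.b8 + c.a1 * σ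
       c.a1 * c.a8 ^ 2 * σ c.a8 := rfl

theorem minv_a4 : (H181.TF.minv σ c).a4 =
    c.a4 + σ c.a1 * c.b8 + σ c.a2 * c.a8 + σ c.a1 * c.a8 * σ c.a8 := rfl

theorem minv_b4 : (H181.TF.minv σ c).b4 =
    c.b4 + c.a1 * c.b6 + c.a2 * c.a5 + σ c.a3 * c.a8 + c.a3 * c.a6 + c.a4 * σ c.a4 + c.a7 * c.b2 + σ c.b2 * c.b8 + σ
       c.a1 * c.a6 * c.a7 + c.a1 * c.a2 * σ c.a7 + c.a1 * c.a3 * c.b8 + c.a1 * c.a4 * c.a7 + c.a1 * c.a6 * σ c.a6 + c.a1 *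
       c.b2 * σ c.b8 + c.a2 * c.a3 * σ c.a8 + c.a2 * c.a4 * c.a6 + c.a2 * c.b2 * c.b8 + c.a8 * σ c.a8 * σ c.b2 + σ c.a1 *
       c.a2 * c.a6 * c.b8 + σ c.a1 * c.a2 * c.a7 * σ c.a8 + σ c.a1 * c.a6 ^ 2 * c.a8 + c.a1 * c.a2 * σ c.a6 * σ c.a8 + c.a1
       * σ c.a1 * c.a6 * σ c.b8 + c.a1 * σ c.a1 * c.a7 * c.b8 + c.a1 ^ 2 * c.a4 * σ c.b8 + c.a1 ^ 2 * σ c.a7 * c.a8 + c.a2
       ^ 2 * c.a4 * σ c.a8 + c.a2 ^ 2 * σ c.a2 * c.b8 + σ c.a1 * c.a2 ^ 2 * σ c.a8 * c.b8 + c.a1 * c.a8 ^ 2 * σ c.a8 * c.b2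
       + c.a1 * σ c.a1 * c.a2 * σ c.a8 * σ c.b8 + c.a1 * σ c.a1 * c.a2 * c.b8 ^ 2 + c.a1 ^ 2 * σ c.a6 * c.a8 * σ c.a8 +
       c.a1 ^ 2 * σ c.a1 * c.b8 * σ c.b8 + c.a2 ^ 2 * σ c.a2 * c.a8 * σ c.a8 + σ c.a1 * c.a2 ^ 2 * c.a8 * (σ c.a8) ^ 2 +
       c.a1 * σ c.a1 * c.a6 * c.a8 ^ 2 * σ c.a8 + c.a1 ^ 2 * c.a4 * c.a8 ^ 2 * σ c.a8 + c.a1 ^ 2 * σ c.a1 * c.a8 * c.b8 ^ 2
       + c.a1 * σ c.a1 * c.a2 * c.a8 ^ 2 * (σ c.a8) ^ 2 + c.a1 ^ 2 * σ c.a1 * c.a8 ^ 2 * σ c.a8 * c.b8 := rfl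

theorem minv_a5 : (H181.TF.minv σ c).a5 =
    c.a5 + c.a1 * σ c.a7 + σ c.a2 * c.a7 + c.a3 * σ c.a8 + c.a4 * c.a6 + c.b2 * c.b8 + σ c.a1 * c.a6 * c.b8 + σ c.a1 *
       c.a7 * σ c.a8 + c.a1 * σ c.a2 * σ c.b8 + c.a1 * σ c.a6 * σ c.a8 + c.a2 * σ c.a2 * c.b8 + c.a1 * σ c.a1 * σ c.a8 * σ
       c.b8 + c.a1 * σ c.a1 * c.b8 ^ 2 + c.a1 * σ c.a2 * c.a8 ^ 2 * σ c.a8 + c.a1 * σ c.a1 * c.a8 ^ 2 * (σ c.a8) ^ 2 := rfl

theorem minv_a6 : (H181.TF.minv σ c).a6 =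
    c.a6 + c.a1 * c.b8 + c.a2 * σ c.a8 := rfl

theorem minv_b6 : (H181.TF.minv σ c).b6 =
    c.b6 + c.a2 * σ c.a7 + c.a3 * c.b8 + c.a4 * c.a7 + c.a5 * c.a8 + c.a6 * σ c.a6 + c.b2 * σ c.b8 + σ c.a1 * c.a6 * σ
       c.b8 + σ c.a1 * c.a7 * c.b8 + c.a1 * σ c.a7 * c.a8 + σ c.a2 * c.a7 * c.a8 + c.a2 * σ c.a6 * σ c.a8 + c.a3 * c.a8 * σ
       c.a8 + c.a4 * c.a6 * c.a8 + c.a8 * c.b2 * c.b8 + σ c.a1 * c.a2 * σ c.a8 * σ c.b8 + σ c.a1 * c.a2 * c.b8 ^ 2 + σ c.a1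
       * c.a6 * c.a8 * c.b8 + σ c.a1 * c.a7 * c.a8 * σ c.a8 + c.a1 * σ c.a2 * c.a8 * σ c.b8 + c.a1 * σ c.a6 * c.a8 * σ c.a8
       + c.a2 * σ c.a2 * c.a8 * c.b8 + c.a8 ^ 2 * σ c.a8 * c.b2 + σ c.a1 * c.a6 * c.a8 ^ 2 * σ c.a8 + c.a1 * σ c.a1 * c.a8
       * c.b8 ^ 2 + c.a1 * σ c.a1 * c.a8 * σ c.a8 * σ c.b8 + σ c.a1 * c.a2 * c.a8 ^ 2 * (σ c.a8) ^ 2 + c.a1 * σ c.a2 * c.a8
       ^ 3 * σ c.a8 + c.a1 * σ c.a1 * c.a8 ^ 3 * (σ c.a8) ^ 2 := rfl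

theorem minv_a7 : (H181.TF.minv σ c).a7 =
    c.a7 + c.a1 * σ c.b8 + c.a2 * c.b8 + c.a6 * c.a8 + c.a1 * c.a8 * c.b8 + c.a2 * c.a8 * σ c.a8 + c.a1 * c.a8 ^ 2 * σ
       c.a8 := rfl

theorem minv_a8 : (H181.TF.minv σ c).a8 =
    c.a8 := rfl

theorem minv_b8 : (H181.TF.minv σ c).b8 =
    c.b8 + c.a8 * σ c.a8 := rfl

end Cd

section T

variable {K : Type u} [Field K] {σ : K →+* K} {U : Type v} [Group U] (T : TF σ U)

/-- the coordinates of an element -/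
noncomputable def co (g : U) : Cd K := (Equiv.ofBijective _ T.bij).symm g

theorem el_co (g : U) : T.el (co T g) = g := (Equiv.ofBijective _ T.bij).apply_symm_apply g
theorem co_el (c : Cd K) : co T (T.el c) = c := (Equiv.ofBijective _ T.bij).symm_apply_apply c
theorem el_injective {c d : Cd K} (h : T.el c = T.el d) : c = d := T.bij.1 h
theorem co_injective {g h : U} (e : co T g = co T h) : g = h := by rw [← el_co T g, e, el_co]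

/-- `U ≃ Cd K` -/
noncomputable def coE : U ≃ Cd K := (Equiv.ofBijective _ T.bij).symm

theorem el_e1 (t : K) : T.el (e1 t) = T.x1 t := by
  simp only [TF.el, e1, H659.TF.x1_zero T.rel, H659.TF.x2_zero T.rel, H659.TF.x3_zero T.rel, H659.TF.x4_zero T.rel, H659.TF.x5_zero T.rel, H659.TF.x6_zero T.rel, H659.TF.x7_zero T.rel, H659.TF.x8_zero T.rel, one_mul, mul_one]
theorem el_e2 (p u : K) : T.el (e2 p u) = T.x2 p u := by
  simp only [TF.el, e2, H659.TF.x1_zero T.rel, H659.TF.x2_zero T.rel, H659.TF.x3_zero T.rel, H659.TF.x4_zero T.rel, H659.TF.x5_zero T.rel, H659.TF.x6_zero T.rel, H659.TF.x7_zero T.rel, H659.TF.x8_zero T.rel, one_mul, mul_one]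
theorem el_e3 (t : K) : T.el (e3 t) = T.x3 t := by
  simp only [TF.el, e3, H659.TF.x1_zero T.rel, H659.TF.x2_zero T.rel, H659.TF.x3_zero T.rel, H659.TF.x4_zero T.rel, H659.TF.x5_zero T.rel, H659.TF.x6_zero T.rel, H659.TF.x7_zero T.rel, H659.TF.x8_zero T.rel, one_mul, mul_one]
theorem el_e4 (p u : K) : T.el (e4 p u) = T.x4 p u := by
  simp only [TF.el, e4, H659.TF.x1_zero T.rel, H659.TF.x2_zero T.rel, H659.TF.x3_zero T.rel, H659.TF.x4_zero T.rel, H659.TF.x5_zero T.rel, H659.TF.x6_zero T.rel, H659.TF.x7_zero T.rel, H659.TF.x8_zero T.rel, one_mul, mul_one]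
theorem el_e5 (t : K) : T.el (e5 t) = T.x5 t := by
  simp only [TF.el, e5, H659.TF.x1_zero T.rel, H659.TF.x2_zero T.rel, H659.TF.x3_zero T.rel, H659.TF.x4_zero T.rel, H659.TF.x5_zero T.rel, H659.TF.x6_zero T.rel, H659.TF.x7_zero T.rel, H659.TF.x8_zero T.rel, one_mul, mul_one]
theorem el_e6 (p u : K) : T.el (e6 p u) = T.x6 p u := by
  simp only [TF.el, e6, H659.TF.x1_zero T.rel, H659.TF.x2_zero T.rel, H659.TF.x3_zero T.rel, H659.TF.x4_zero T.rel, H659.TF.x5_zero T.rel, H659.TF.x6_zero T.rel, H659.TF.x7_zero T.rel, H659.TF.x8_zero T.rel, one_mul, mul_one]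
theorem el_e7 (t : K) : T.el (e7 t) = T.x7 t := by
  simp only [TF.el, e7, H659.TF.x1_zero T.rel, H659.TF.x2_zero T.rel, H659.TF.x3_zero T.rel, H659.TF.x4_zero T.rel, H659.TF.x5_zero T.rel, H659.TF.x6_zero T.rel, H659.TF.x7_zero T.rel, H659.TF.x8_zero T.rel, one_mul, mul_one]
theorem el_e8 (p u : K) : T.el (e8 p u) = T.x8 p u := by
  simp only [TF.el, e8, H659.TF.x1_zero T.rel, H659.TF.x2_zero T.rel, H659.TF.x3_zero T.rel, H659.TF.x4_zero T.rel, H659.TF.x5_zero T.rel, H659.TF.x6_zero T.rel, H659.TF.x7_zero T.rel, H659.TF.x8_zero T.rel, one_mul, mul_one]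

theorem co_x1 (t : K) : co T (T.x1 t) = e1 t := by rw [← el_e1, co_el]
theorem co_x2 (p u : K) : co T (T.x2 p u) = e2 p u := by rw [← el_e2, co_el]
theorem co_x3 (t : K) : co T (T.x3 t) = e3 t := by rw [← el_e3, co_el]
theorem co_x4 (p u : K) : co T (T.x4 p u) = e4 p u := by rw [← el_e4, co_el]
theorem co_x5 (t : K) : co T (T.x5 t) = e5 t := by rw [← el_e5, co_el]
theorem co_x6 (p u : K) : co T (T.x6 p u) = e6 p u := by rw [← el_e6, co_el]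
theorem co_x7 (t : K) : co T (T.x7 t) = e7 t := by rw [← el_e7, co_el]
theorem co_x8 (p u : K) : co T (T.x8 p u) = e8 p u := by rw [← el_e8, co_el]

theorem co_one : co T 1 = ⟨0, 0, 0, 0, 0, 0, 0, 0, 0, 0, 0, 0⟩ := by
  rw [← H659.TF.x1_zero T.rel, co_x1]
  rfl

theorem x1_mem (t : K) : T.x1 t ∈ T.X1 := Subgroup.subset_closure (Set.mem_range_self t)
theorem x2_mem (p u : K) : T.x2 p u ∈ T.X2 := Subgroup.subset_closure ⟨p, u, rfl⟩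
theorem x3_mem (t : K) : T.x3 t ∈ T.X3 := Subgroup.subset_closure (Set.mem_range_self t)
theorem x4_mem (p u : K) : T.x4 p u ∈ T.X4 := Subgroup.subset_closure ⟨p, u, rfl⟩
theorem x5_mem (t : K) : T.x5 t ∈ T.X5 := Subgroup.subset_closure (Set.mem_range_self t)
theorem x6_mem (p u : K) : T.x6 p u ∈ T.X6 := Subgroup.subset_closure ⟨p, u, rfl⟩
theorem x7_mem (t : K) : T.x7 t ∈ T.X7 := Subgroup.subset_closure (Set.mem_range_self t)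
theorem x8_mem (p u : K) : T.x8 p u ∈ T.X8 := Subgroup.subset_closure ⟨p, u, rfl⟩
theorem x2_mem_Z (u : K) : T.x2 0 u ∈ T.Z2 := Subgroup.subset_closure ⟨u, rfl⟩
theorem x4_mem_Z (u : K) : T.x4 0 u ∈ T.Z4 := Subgroup.subset_closure ⟨u, rfl⟩
theorem x6_mem_Z (u : K) : T.x6 0 u ∈ T.Z6 := Subgroup.subset_closure ⟨u, rfl⟩
theorem x8_mem_Z (u : K) : T.x8 0 u ∈ T.Z8 := Subgroup.subset_closure ⟨u, rfl⟩

theorem X1_le_QA : T.X1 ≤ T.QA := le_sup_left.trans (le_sup_left.trans (le_sup_left.trans (le_sup_left.trans (le_sup_left.trans le_sup_left))))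
theorem X2_le_QA : T.X2 ≤ T.QA := le_sup_right.trans (le_sup_left.trans (le_sup_left.trans (le_sup_left.trans (le_sup_left.trans le_sup_left))))
theorem X3_le_QA : T.X3 ≤ T.QA := le_sup_right.trans (le_sup_left.trans (le_sup_left.trans (le_sup_left.trans le_sup_left)))
theorem X4_le_QA : T.X4 ≤ T.QA := le_sup_right.trans (le_sup_left.trans (le_sup_left.trans le_sup_left))
theorem X5_le_QA : T.X5 ≤ T.QA := le_sup_right.trans (le_sup_left.trans le_sup_left)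
theorem X6_le_QA : T.X6 ≤ T.QA := le_sup_right.trans le_sup_left
theorem X7_le_QA : T.X7 ≤ T.QA := le_sup_right
theorem X2_le_QB : T.X2 ≤ T.QB := le_sup_left.trans (le_sup_left.trans (le_sup_left.trans (le_sup_left.trans (le_sup_left.trans le_sup_left))))
theorem X3_le_QB : T.X3 ≤ T.QB := le_sup_right.trans (le_sup_left.trans (le_sup_left.trans (le_sup_left.trans (le_sup_left.trans le_sup_left))))
theorem X4_le_QB : T.X4 ≤ T.QB := le_sup_right.trans (le_sup_left.trans (le_sup_left.trans (le_sup_left.trans le_sup_left)))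
theorem X5_le_QB : T.X5 ≤ T.QB := le_sup_right.trans (le_sup_left.trans (le_sup_left.trans le_sup_left))
theorem X6_le_QB : T.X6 ≤ T.QB := le_sup_right.trans (le_sup_left.trans le_sup_left)
theorem X7_le_QB : T.X7 ≤ T.QB := le_sup_right.trans le_sup_left
theorem X8_le_QB : T.X8 ≤ T.QB := le_sup_right
theorem Z4_le_V : T.Z4 ≤ T.V := le_sup_left
theorem Z6_le_V : T.Z6 ≤ T.V := le_sup_right
theorem Z4_le_Y : T.Z4 ≤ T.Y := le_sup_left.trans le_sup_left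
theorem Z6_le_Y : T.Z6 ≤ T.Y := le_sup_right.trans le_sup_left
theorem X5_le_Y : T.X5 ≤ T.Y := le_sup_right
theorem Z4_le_E4 : T.Z4 ≤ T.E4 := le_sup_left.trans (le_sup_left.trans le_sup_left)
theorem Z6_le_E4 : T.Z6 ≤ T.E4 := le_sup_right.trans (le_sup_left.trans le_sup_left)
theorem X5_le_E4 : T.X5 ≤ T.E4 := le_sup_right.trans le_sup_left
theorem X3_le_E4 : T.X3 ≤ T.E4 := le_sup_right
theorem Z4_le_E : T.Z4 ≤ T.E := le_sup_left.trans (le_sup_left.trans (le_sup_left.trans le_sup_left))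
theorem Z6_le_E : T.Z6 ≤ T.E := le_sup_right.trans (le_sup_left.trans (le_sup_left.trans le_sup_left))
theorem X5_le_E : T.X5 ≤ T.E := le_sup_right.trans (le_sup_left.trans le_sup_left)
theorem X3_le_E : T.X3 ≤ T.E := le_sup_right.trans le_sup_left
theorem Z2_le_E : T.Z2 ≤ T.E := le_sup_right
theorem Z4_le_D : T.Z4 ≤ T.D := le_sup_left.trans (le_sup_left.trans (le_sup_left.trans (le_sup_left.trans le_sup_left)))
theorem Z6_le_D : T.Z6 ≤ T.D := le_sup_right.trans (le_sup_left.trans (le_sup_left.trans (le_sup_left.trans le_sup_left)))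
theorem X5_le_D : T.X5 ≤ T.D := le_sup_right.trans (le_sup_left.trans (le_sup_left.trans le_sup_left))
theorem X3_le_D : T.X3 ≤ T.D := le_sup_right.trans (le_sup_left.trans le_sup_left)
theorem Z2_le_D : T.Z2 ≤ T.D := le_sup_right.trans le_sup_left
theorem X4_le_D : T.X4 ≤ T.D := le_sup_right
theorem Z4_le_A37 : T.Z4 ≤ T.A37 := le_sup_left.trans (le_sup_left.trans (le_sup_left.trans le_sup_left))
theorem Z6_le_A37 : T.Z6 ≤ T.A37 := le_sup_right.trans (le_sup_left.trans (le_sup_left.trans le_sup_left))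
theorem X5_le_A37 : T.X5 ≤ T.A37 := le_sup_right.trans (le_sup_left.trans le_sup_left)
theorem X3_le_A37 : T.X3 ≤ T.A37 := le_sup_right.trans le_sup_left
theorem X7_le_A37 : T.X7 ≤ T.A37 := le_sup_right
theorem Z2_le_N3 : T.Z2 ≤ T.N3 := le_sup_left.trans (le_sup_left.trans (le_sup_left.trans (le_sup_left.trans (le_sup_left.trans le_sup_left))))
theorem X3_le_N3 : T.X3 ≤ T.N3 := le_sup_right.trans (le_sup_left.trans (le_sup_left.trans (le_sup_left.trans (le_sup_left.trans le_sup_left))))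
theorem X4_le_N3 : T.X4 ≤ T.N3 := le_sup_right.trans (le_sup_left.trans (le_sup_left.trans (le_sup_left.trans le_sup_left)))
theorem X5_le_N3 : T.X5 ≤ T.N3 := le_sup_right.trans (le_sup_left.trans (le_sup_left.trans le_sup_left))
theorem X6_le_N3 : T.X6 ≤ T.N3 := le_sup_right.trans (le_sup_left.trans le_sup_left)
theorem X7_le_N3 : T.X7 ≤ T.N3 := le_sup_right.trans le_sup_left
theorem Z8_le_N3 : T.Z8 ≤ T.N3 := le_sup_right

end T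

section mulPart

variable {K : Type u} [Field K] {σ : K →+* K} {m : ℕ} (hK : HypK σ m)
variable {U : Type v} [Group U] (T : TF σ U)

include hK

theorem co_mul (g h : U) : co T (g * h) = H181.TF.mul σ (co T g) (co T h) := by
  rw [← el_co T g, ← el_co T h, H181.TF.el_mul T hK.two hK.sq, co_el, co_el, co_el]

theorem co_inv (g : U) : co T g⁻¹ = H181.TF.minv σ (co T g) := by
  rw [← el_co T g, H181.TF.el_inv T hK.two hK.sq, co_el, co_el]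

theorem finite_K : Finite K := hK.fin

include T in
theorem finite_U : Finite U := by
  have := hK.fin
  exact Finite.of_equiv _ ((coE T).trans cdEquiv).symm

include T in
theorem card_U : Nat.card U = (2 ^ (2 * m + 1)) ^ 12 := by
  rw [Nat.card_congr ((coE T).trans cdEquiv), Nat.card_fun, hK.card, Nat.card_eq_fintype_card (α := Fin 12), Fintype.card_fin]


/-- a set of coordinates closed under the multiplication is a subgroup -/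
theorem exists_sub (P : Cd K → Prop) (h1 : P ⟨0, 0, 0, 0, 0, 0, 0, 0, 0, 0, 0, 0⟩)
    (hm : ∀ c d, P c → P d → P (H181.TF.mul σ c d)) : ∃ S : Subgroup U, ∀ g, g ∈ S ↔ P (co T g) := by
  haveI := finite_U hK T
  have hp : ∀ (g : U) (n : ℕ), P (co T g) → P (co T (g ^ n)) := by
    intro g n hg
    induction n with
    | zero => rw [pow_zero, co_one]; exact h1
    | succ n ih => rw [pow_succ, co_mul hK]; exact hm _ _ ih hg
  refine ⟨{ carrier := {g | P (co T g)}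
            one_mem' := by rw [Set.mem_setOf_eq, co_one]; exact h1
            mul_mem' := fun {g h} hg hh => by
              rw [Set.mem_setOf_eq, co_mul hK]; exact hm _ _ hg hh
            inv_mem' := fun {g} hg => ?_ }, fun g => Iff.rfl⟩
  have e : g⁻¹ = g ^ (orderOf g - 1) :=
    inv_eq_of_mul_eq_one_left (by rw [pow_sub_one_mul (orderOf_pos g).ne', pow_orderOf_eq_one])
  change P (co T g⁻¹)
  rw [e]
  exact hp _ _ hg

theorem card_of_mask (M : Fin 12 → Bool) {n : ℕ} (hn : Fintype.card {i // M i = true} = n) (N : Subgroup U)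
    (h : ∀ g, g ∈ N ↔ ∀ i, M i = false → toFn (co T g) i = 0) : Nat.card N = (2 ^ (2 * m + 1)) ^ n := by
  rw [← hn, ← hK.card, ← card_mask (K := K) M]
  exact Nat.card_congr ((coE T).subtypeEquiv h)

/-! ### the root groups -/

theorem mem_X1 {g : U} : g ∈ T.X1 ↔ ∃ t, g = T.x1 t := by
  constructor
  · obtain ⟨S, hS⟩ := exists_sub hK T (fun c => ∃ t, c = e1 t) ⟨0, rfl⟩ (by
      rintro _ _ ⟨t, rfl⟩ ⟨s, rfl⟩
      exact ⟨t + s, by ext <;> simp [mul_a1, mul_a2, mul_b2, mul_a3, mul_a4, mul_b4, mul_a5, mul_a6, mul_b6, mul_a7, mul_a8, mul_b8, e1]⟩)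
    have hle : T.X1 ≤ S := by
      rw [TF.X1, Subgroup.closure_le]
      rintro _ ⟨t, rfl⟩
      exact (hS _).2 ⟨t, co_x1 T t⟩
    intro h
    obtain ⟨t, ht⟩ := (hS _).1 (hle h)
    exact ⟨t, by rw [← el_co T g, ht, el_e1]⟩
  · rintro ⟨t, rfl⟩
    exact x1_mem T t

theorem mem_X2 {g : U} : g ∈ T.X2 ↔ ∃ p u, g = T.x2 p u := by
  constructor
  · obtain ⟨S, hS⟩ := exists_sub hK T (fun c => ∃ p u, c = e2 p u) ⟨0, 0, rfl⟩ (by
      rintro _ _ ⟨p, u, rfl⟩ ⟨q, v, rfl⟩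
      exact ⟨p + q, u + v + p * σ q, by ext <;> simp [mul_a1, mul_a2, mul_b2, mul_a3, mul_a4, mul_b4, mul_a5, mul_a6, mul_b6, mul_a7, mul_a8, mul_b8, e2]⟩)
    have hle : T.X2 ≤ S := by
      rw [TF.X2, Subgroup.closure_le]
      rintro _ ⟨p, u, rfl⟩
      exact (hS _).2 ⟨p, u, co_x2 T p u⟩
    intro h
    obtain ⟨p, u, ht⟩ := (hS _).1 (hle h)
    exact ⟨p, u, by rw [← el_co T g, ht, el_e2]⟩
  · rintro ⟨p, u, rfl⟩
    exact x2_mem T p u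

theorem mem_X3 {g : U} : g ∈ T.X3 ↔ ∃ t, g = T.x3 t := by
  constructor
  · obtain ⟨S, hS⟩ := exists_sub hK T (fun c => ∃ t, c = e3 t) ⟨0, rfl⟩ (by
      rintro _ _ ⟨t, rfl⟩ ⟨s, rfl⟩
      exact ⟨t + s, by ext <;> simp [mul_a1, mul_a2, mul_b2, mul_a3, mul_a4, mul_b4, mul_a5, mul_a6, mul_b6, mul_a7, mul_a8, mul_b8, e3]⟩)
    have hle : T.X3 ≤ S := by
      rw [TF.X3, Subgroup.closure_le]
      rintro _ ⟨t, rfl⟩
      exact (hS _).2 ⟨t, co_x3 T t⟩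
    intro h
    obtain ⟨t, ht⟩ := (hS _).1 (hle h)
    exact ⟨t, by rw [← el_co T g, ht, el_e3]⟩
  · rintro ⟨t, rfl⟩
    exact x3_mem T t

theorem mem_X4 {g : U} : g ∈ T.X4 ↔ ∃ p u, g = T.x4 p u := by
  constructor
  · obtain ⟨S, hS⟩ := exists_sub hK T (fun c => ∃ p u, c = e4 p u) ⟨0, 0, rfl⟩ (by
      rintro _ _ ⟨p, u, rfl⟩ ⟨q, v, rfl⟩
      exact ⟨p + q, u + v + p * σ q, by ext <;> simp [mul_a1, mul_a2, mul_b2, mul_a3, mul_a4, mul_b4, mul_a5, mul_a6, mul_b6, mul_a7, mul_a8, mul_b8, e4]⟩)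
    have hle : T.X4 ≤ S := by
      rw [TF.X4, Subgroup.closure_le]
      rintro _ ⟨p, u, rfl⟩
      exact (hS _).2 ⟨p, u, co_x4 T p u⟩
    intro h
    obtain ⟨p, u, ht⟩ := (hS _).1 (hle h)
    exact ⟨p, u, by rw [← el_co T g, ht, el_e4]⟩
  · rintro ⟨p, u, rfl⟩
    exact x4_mem T p u

theorem mem_X5 {g : U} : g ∈ T.X5 ↔ ∃ t, g = T.x5 t := by
  constructor
  · obtain ⟨S, hS⟩ := exists_sub hK T (fun c => ∃ t, c = e5 t) ⟨0, rfl⟩ (by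
      rintro _ _ ⟨t, rfl⟩ ⟨s, rfl⟩
      exact ⟨t + s, by ext <;> simp [mul_a1, mul_a2, mul_b2, mul_a3, mul_a4, mul_b4, mul_a5, mul_a6, mul_b6, mul_a7, mul_a8, mul_b8, e5]⟩)
    have hle : T.X5 ≤ S := by
      rw [TF.X5, Subgroup.closure_le]
      rintro _ ⟨t, rfl⟩
      exact (hS _).2 ⟨t, co_x5 T t⟩
    intro h
    obtain ⟨t, ht⟩ := (hS _).1 (hle h)
    exact ⟨t, by rw [← el_co T g, ht, el_e5]⟩
  · rintro ⟨t, rfl⟩
    exact x5_mem T t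

theorem mem_X6 {g : U} : g ∈ T.X6 ↔ ∃ p u, g = T.x6 p u := by
  constructor
  · obtain ⟨S, hS⟩ := exists_sub hK T (fun c => ∃ p u, c = e6 p u) ⟨0, 0, rfl⟩ (by
      rintro _ _ ⟨p, u, rfl⟩ ⟨q, v, rfl⟩
      exact ⟨p + q, u + v + p * σ q, by ext <;> simp [mul_a1, mul_a2, mul_b2, mul_a3, mul_a4, mul_b4, mul_a5, mul_a6, mul_b6, mul_a7, mul_a8, mul_b8, e6]⟩)
    have hle : T.X6 ≤ S := by
      rw [TF.X6, Subgroup.closure_le]
      rintro _ ⟨p, u, rfl⟩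
      exact (hS _).2 ⟨p, u, co_x6 T p u⟩
    intro h
    obtain ⟨p, u, ht⟩ := (hS _).1 (hle h)
    exact ⟨p, u, by rw [← el_co T g, ht, el_e6]⟩
  · rintro ⟨p, u, rfl⟩
    exact x6_mem T p u

theorem mem_X7 {g : U} : g ∈ T.X7 ↔ ∃ t, g = T.x7 t := by
  constructor
  · obtain ⟨S, hS⟩ := exists_sub hK T (fun c => ∃ t, c = e7 t) ⟨0, rfl⟩ (by
      rintro _ _ ⟨t, rfl⟩ ⟨s, rfl⟩
      exact ⟨t + s, by ext <;> simp [mul_a1, mul_a2, mul_b2, mul_a3, mul_a4, mul_b4, mul_a5, mul_a6, mul_b6, mul_a7, mul_a8, mul_b8, e7]⟩)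
    have hle : T.X7 ≤ S := by
      rw [TF.X7, Subgroup.closure_le]
      rintro _ ⟨t, rfl⟩
      exact (hS _).2 ⟨t, co_x7 T t⟩
    intro h
    obtain ⟨t, ht⟩ := (hS _).1 (hle h)
    exact ⟨t, by rw [← el_co T g, ht, el_e7]⟩
  · rintro ⟨t, rfl⟩
    exact x7_mem T t

theorem mem_X8 {g : U} : g ∈ T.X8 ↔ ∃ p u, g = T.x8 p u := by
  constructor
  · obtain ⟨S, hS⟩ := exists_sub hK T (fun c => ∃ p u, c = e8 p u) ⟨0, 0, rfl⟩ (by
      rintro _ _ ⟨p, u, rfl⟩ ⟨q, v, rfl⟩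
      exact ⟨p + q, u + v + p * σ q, by ext <;> simp [mul_a1, mul_a2, mul_b2, mul_a3, mul_a4, mul_b4, mul_a5, mul_a6, mul_b6, mul_a7, mul_a8, mul_b8, e8]⟩)
    have hle : T.X8 ≤ S := by
      rw [TF.X8, Subgroup.closure_le]
      rintro _ ⟨p, u, rfl⟩
      exact (hS _).2 ⟨p, u, co_x8 T p u⟩
    intro h
    obtain ⟨p, u, ht⟩ := (hS _).1 (hle h)
    exact ⟨p, u, by rw [← el_co T g, ht, el_e8]⟩
  · rintro ⟨p, u, rfl⟩
    exact x8_mem T p u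

theorem mem_Z2 {g : U} : g ∈ T.Z2 ↔ ∃ u, g = T.x2 0 u := by
  constructor
  · obtain ⟨S, hS⟩ := exists_sub hK T (fun c => ∃ u, c = e2 0 u) ⟨0, rfl⟩ (by
      rintro _ _ ⟨u, rfl⟩ ⟨v, rfl⟩
      exact ⟨u + v, by ext <;> simp [mul_a1, mul_a2, mul_b2, mul_a3, mul_a4, mul_b4, mul_a5, mul_a6, mul_b6, mul_a7, mul_a8, mul_b8, e2]⟩)
    have hle : T.Z2 ≤ S := by
      rw [TF.Z2, Subgroup.closure_le]
      rintro _ ⟨u, rfl⟩
      exact (hS _).2 ⟨u, co_x2 T 0 u⟩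
    intro h
    obtain ⟨u, ht⟩ := (hS _).1 (hle h)
    exact ⟨u, by rw [← el_co T g, ht, el_e2]⟩
  · rintro ⟨u, rfl⟩
    exact x2_mem_Z T u

theorem mem_Z4 {g : U} : g ∈ T.Z4 ↔ ∃ u, g = T.x4 0 u := by
  constructor
  · obtain ⟨S, hS⟩ := exists_sub hK T (fun c => ∃ u, c = e4 0 u) ⟨0, rfl⟩ (by
      rintro _ _ ⟨u, rfl⟩ ⟨v, rfl⟩
      exact ⟨u + v, by ext <;> simp [mul_a1, mul_a2, mul_b2, mul_a3, mul_a4, mul_b4, mul_a5, mul_a6, mul_b6, mul_a7, mul_a8, mul_b8, e4]⟩)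
    have hle : T.Z4 ≤ S := by
      rw [TF.Z4, Subgroup.closure_le]
      rintro _ ⟨u, rfl⟩
      exact (hS _).2 ⟨u, co_x4 T 0 u⟩
    intro h
    obtain ⟨u, ht⟩ := (hS _).1 (hle h)
    exact ⟨u, by rw [← el_co T g, ht, el_e4]⟩
  · rintro ⟨u, rfl⟩
    exact x4_mem_Z T u

theorem mem_Z6 {g : U} : g ∈ T.Z6 ↔ ∃ u, g = T.x6 0 u := by
  constructor
  · obtain ⟨S, hS⟩ := exists_sub hK T (fun c => ∃ u, c = e6 0 u) ⟨0, rfl⟩ (by
      rintro _ _ ⟨u, rfl⟩ ⟨v, rfl⟩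
      exact ⟨u + v, by ext <;> simp [mul_a1, mul_a2, mul_b2, mul_a3, mul_a4, mul_b4, mul_a5, mul_a6, mul_b6, mul_a7, mul_a8, mul_b8, e6]⟩)
    have hle : T.Z6 ≤ S := by
      rw [TF.Z6, Subgroup.closure_le]
      rintro _ ⟨u, rfl⟩
      exact (hS _).2 ⟨u, co_x6 T 0 u⟩
    intro h
    obtain ⟨u, ht⟩ := (hS _).1 (hle h)
    exact ⟨u, by rw [← el_co T g, ht, el_e6]⟩
  · rintro ⟨u, rfl⟩
    exact x6_mem_Z T u

theorem mem_Z8 {g : U} : g ∈ T.Z8 ↔ ∃ u, g = T.x8 0 u := by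
  constructor
  · obtain ⟨S, hS⟩ := exists_sub hK T (fun c => ∃ u, c = e8 0 u) ⟨0, rfl⟩ (by
      rintro _ _ ⟨u, rfl⟩ ⟨v, rfl⟩
      exact ⟨u + v, by ext <;> simp [mul_a1, mul_a2, mul_b2, mul_a3, mul_a4, mul_b4, mul_a5, mul_a6, mul_b6, mul_a7, mul_a8, mul_b8, e8]⟩)
    have hle : T.Z8 ≤ S := by
      rw [TF.Z8, Subgroup.closure_le]
      rintro _ ⟨u, rfl⟩
      exact (hS _).2 ⟨u, co_x8 T 0 u⟩
    intro h
    obtain ⟨u, ht⟩ := (hS _).1 (hle h)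
    exact ⟨u, by rw [← el_co T g, ht, el_e8]⟩
  · rintro ⟨u, rfl⟩
    exact x8_mem_Z T u

theorem card_X1 : Nat.card T.X1 = 2 ^ (2 * m + 1) := by
  rw [← hK.card]
  refine (Nat.card_congr (Equiv.ofBijective (fun t => (⟨T.x1 t, x1_mem T t⟩ : T.X1)) ⟨fun t s h => ?_, fun g => ?_⟩)).symm
  · have h1 := congrArg (fun g : T.X1 => (co T (g : U)).a1) h
    simpa only [co_x1, e1] using h1
  · obtain ⟨t, ht⟩ := (mem_X1 hK T).1 g.2
    exact ⟨t, Subtype.ext ht.symm⟩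

theorem card_X2 : Nat.card T.X2 = (2 ^ (2 * m + 1)) ^ 2 := by
  rw [← hK.card, sq, ← Nat.card_prod]
  refine (Nat.card_congr (Equiv.ofBijective (fun t : K × K => (⟨T.x2 t.1 t.2, x2_mem T t.1 t.2⟩ : T.X2))
    ⟨fun t s h => ?_, fun g => ?_⟩)).symm
  · have h1 := congrArg (fun g : T.X2 => (co T (g : U)).a2) h
    have h2 := congrArg (fun g : T.X2 => (co T (g : U)).b2) h
    simp only [co_x2, e2] at h1 h2
    exact Prod.ext h1 h2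
  · obtain ⟨p, u, ht⟩ := (mem_X2 hK T).1 g.2
    exact ⟨(p, u), Subtype.ext ht.symm⟩

theorem card_Z2 : Nat.card T.Z2 = 2 ^ (2 * m + 1) := by
  rw [← hK.card]
  refine (Nat.card_congr (Equiv.ofBijective (fun t => (⟨T.x2 0 t, x2_mem_Z T t⟩ : T.Z2)) ⟨fun t s h => ?_, fun g => ?_⟩)).symm
  · have h1 := congrArg (fun g : T.Z2 => (co T (g : U)).b2) h
    simpa only [co_x2, e2] using h1
  · obtain ⟨t, ht⟩ := (mem_Z2 hK T).1 g.2
    exact ⟨t, Subtype.ext ht.symm⟩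

theorem card_X3 : Nat.card T.X3 = 2 ^ (2 * m + 1) := by
  rw [← hK.card]
  refine (Nat.card_congr (Equiv.ofBijective (fun t => (⟨T.x3 t, x3_mem T t⟩ : T.X3)) ⟨fun t s h => ?_, fun g => ?_⟩)).symm
  · have h1 := congrArg (fun g : T.X3 => (co T (g : U)).a3) h
    simpa only [co_x3, e3] using h1
  · obtain ⟨t, ht⟩ := (mem_X3 hK T).1 g.2
    exact ⟨t, Subtype.ext ht.symm⟩

theorem card_X4 : Nat.card T.X4 = (2 ^ (2 * m + 1)) ^ 2 := by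
  rw [← hK.card, sq, ← Nat.card_prod]
  refine (Nat.card_congr (Equiv.ofBijective (fun t : K × K => (⟨T.x4 t.1 t.2, x4_mem T t.1 t.2⟩ : T.X4))
    ⟨fun t s h => ?_, fun g => ?_⟩)).symm
  · have h1 := congrArg (fun g : T.X4 => (co T (g : U)).a4) h
    have h2 := congrArg (fun g : T.X4 => (co T (g : U)).b4) h
    simp only [co_x4, e4] at h1 h2
    exact Prod.ext h1 h2
  · obtain ⟨p, u, ht⟩ := (mem_X4 hK T).1 g.2
    exact ⟨(p, u), Subtype.ext ht.symm⟩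

theorem card_Z4 : Nat.card T.Z4 = 2 ^ (2 * m + 1) := by
  rw [← hK.card]
  refine (Nat.card_congr (Equiv.ofBijective (fun t => (⟨T.x4 0 t, x4_mem_Z T t⟩ : T.Z4)) ⟨fun t s h => ?_, fun g => ?_⟩)).symm
  · have h1 := congrArg (fun g : T.Z4 => (co T (g : U)).b4) h
    simpa only [co_x4, e4] using h1
  · obtain ⟨t, ht⟩ := (mem_Z4 hK T).1 g.2
    exact ⟨t, Subtype.ext ht.symm⟩

theorem card_X5 : Nat.card T.X5 = 2 ^ (2 * m + 1) := by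
  rw [← hK.card]
  refine (Nat.card_congr (Equiv.ofBijective (fun t => (⟨T.x5 t, x5_mem T t⟩ : T.X5)) ⟨fun t s h => ?_, fun g => ?_⟩)).symm
  · have h1 := congrArg (fun g : T.X5 => (co T (g : U)).a5) h
    simpa only [co_x5, e5] using h1
  · obtain ⟨t, ht⟩ := (mem_X5 hK T).1 g.2
    exact ⟨t, Subtype.ext ht.symm⟩

theorem card_X6 : Nat.card T.X6 = (2 ^ (2 * m + 1)) ^ 2 := by
  rw [← hK.card, sq, ← Nat.card_prod]
  refine (Nat.card_congr (Equiv.ofBijective (fun t : K × K => (⟨T.x6 t.1 t.2, x6_mem T t.1 t.2⟩ : T.X6))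
    ⟨fun t s h => ?_, fun g => ?_⟩)).symm
  · have h1 := congrArg (fun g : T.X6 => (co T (g : U)).a6) h
    have h2 := congrArg (fun g : T.X6 => (co T (g : U)).b6) h
    simp only [co_x6, e6] at h1 h2
    exact Prod.ext h1 h2
  · obtain ⟨p, u, ht⟩ := (mem_X6 hK T).1 g.2
    exact ⟨(p, u), Subtype.ext ht.symm⟩

theorem card_Z6 : Nat.card T.Z6 = 2 ^ (2 * m + 1) := by
  rw [← hK.card]
  refine (Nat.card_congr (Equiv.ofBijective (fun t => (⟨T.x6 0 t, x6_mem_Z T t⟩ : T.Z6)) ⟨fun t s h => ?_, fun g => ?_⟩)).symm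
  · have h1 := congrArg (fun g : T.Z6 => (co T (g : U)).b6) h
    simpa only [co_x6, e6] using h1
  · obtain ⟨t, ht⟩ := (mem_Z6 hK T).1 g.2
    exact ⟨t, Subtype.ext ht.symm⟩

theorem card_X7 : Nat.card T.X7 = 2 ^ (2 * m + 1) := by
  rw [← hK.card]
  refine (Nat.card_congr (Equiv.ofBijective (fun t => (⟨T.x7 t, x7_mem T t⟩ : T.X7)) ⟨fun t s h => ?_, fun g => ?_⟩)).symm
  · have h1 := congrArg (fun g : T.X7 => (co T (g : U)).a7) h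
    simpa only [co_x7, e7] using h1
  · obtain ⟨t, ht⟩ := (mem_X7 hK T).1 g.2
    exact ⟨t, Subtype.ext ht.symm⟩

theorem card_X8 : Nat.card T.X8 = (2 ^ (2 * m + 1)) ^ 2 := by
  rw [← hK.card, sq, ← Nat.card_prod]
  refine (Nat.card_congr (Equiv.ofBijective (fun t : K × K => (⟨T.x8 t.1 t.2, x8_mem T t.1 t.2⟩ : T.X8))
    ⟨fun t s h => ?_, fun g => ?_⟩)).symm
  · have h1 := congrArg (fun g : T.X8 => (co T (g : U)).a8) h
    have h2 := congrArg (fun g : T.X8 => (co T (g : U)).b8) h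
    simp only [co_x8, e8] at h1 h2
    exact Prod.ext h1 h2
  · obtain ⟨p, u, ht⟩ := (mem_X8 hK T).1 g.2
    exact ⟨(p, u), Subtype.ext ht.symm⟩

theorem card_Z8 : Nat.card T.Z8 = 2 ^ (2 * m + 1) := by
  rw [← hK.card]
  refine (Nat.card_congr (Equiv.ofBijective (fun t => (⟨T.x8 0 t, x8_mem_Z T t⟩ : T.Z8)) ⟨fun t s h => ?_, fun g => ?_⟩)).symm
  · have h1 := congrArg (fun g : T.Z8 => (co T (g : U)).b8) h
    simpa only [co_x8, e8] using h1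
  · obtain ⟨t, ht⟩ := (mem_Z8 hK T).1 g.2
    exact ⟨t, Subtype.ext ht.symm⟩

theorem Z2_le_X2 : T.Z2 ≤ T.X2 := by
  intro g hg
  obtain ⟨u, rfl⟩ := (mem_Z2 hK T).1 hg
  exact x2_mem T 0 u

theorem Z4_le_X4 : T.Z4 ≤ T.X4 := by
  intro g hg
  obtain ⟨u, rfl⟩ := (mem_Z4 hK T).1 hg
  exact x4_mem T 0 u

theorem Z6_le_X6 : T.Z6 ≤ T.X6 := by
  intro g hg
  obtain ⟨u, rfl⟩ := (mem_Z6 hK T).1 hg
  exact x6_mem T 0 u

theorem Z8_le_X8 : T.Z8 ≤ T.X8 := by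
  intro g hg
  obtain ⟨u, rfl⟩ := (mem_Z8 hK T).1 hg
  exact x8_mem T 0 u

/-! ### the named subgroups: membership in coordinates -/

end mulPart

end Cfsg.Agent.H752.TF
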