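import Cfsg.Agent.H752.TF.CoBase

set_option autoImplicit false
set_option linter.unusedVariables false
set_option linter.unusedSimpArgs false

namespace Cfsg.Agent.H752.TF

open Cfsg.Agent.Octagon.Pkg Cfsg.Agent.H745.TF

universe u v

variable {K : Type u} [Field K] {σ : K →+* K} {m : ℕ} (hK : HypK σ m)
variable {U : Type v} [Group U] (T : TF σ U)

include hK

/-! ### `QA` -/

theorem mem_QA {g : U} : g ∈ T.QA ↔ (co T g).a8 = 0 ∧ (co T g).b8 = 0 := by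
  obtain ⟨S, hS⟩ := exists_sub hK T (fun c => c.a8 = 0 ∧ c.b8 = 0) (⟨rfl, rfl⟩) (by
    rintro c d ⟨hc0, hc1⟩ ⟨hd0, hd1⟩
    refine ⟨?_, ?_⟩
    · rw [mul_a8]
      simp only [hc0, hc1, hd0, hd1, zero_mul, mul_zero, add_zero, zero_add, map_zero, pow_zero, ne_eq, OfNat.ofNat_ne_zero, not_false_eq_true, zero_pow]
    · rw [mul_b8]
      simp only [hc0, hc1, hd0, hd1, zero_mul, mul_zero, add_zero, zero_add, map_zero, pow_zero, ne_eq, OfNat.ofNat_ne_zero, not_false_eq_true, zero_pow])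
  rw [← hS]
  constructor
  · intro h
    have hle : T.QA ≤ S := by
      simp only [TF.QA, sup_le_iff, Subgroup.closure_le, TF.X1, TF.X2, TF.X3, TF.X4, TF.X5, TF.X6, TF.X7]
      refine ⟨⟨⟨⟨⟨⟨?_, ?_⟩, ?_⟩, ?_⟩, ?_⟩, ?_⟩, ?_⟩
      · rintro _ ⟨t, rfl⟩
        exact (hS _).2 (by rw [co_x1]; exact ⟨rfl, rfl⟩)
      · rintro _ ⟨p, u, rfl⟩
        exact (hS _).2 (by rw [co_x2]; exact ⟨rfl, rfl⟩)
      · rintro _ ⟨t, rfl⟩
        exact (hS _).2 (by rw [co_x3]; exact ⟨rfl, rfl⟩)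
      · rintro _ ⟨p, u, rfl⟩
        exact (hS _).2 (by rw [co_x4]; exact ⟨rfl, rfl⟩)
      · rintro _ ⟨t, rfl⟩
        exact (hS _).2 (by rw [co_x5]; exact ⟨rfl, rfl⟩)
      · rintro _ ⟨p, u, rfl⟩
        exact (hS _).2 (by rw [co_x6]; exact ⟨rfl, rfl⟩)
      · rintro _ ⟨t, rfl⟩
        exact (hS _).2 (by rw [co_x7]; exact ⟨rfl, rfl⟩)
    exact hle h
  · intro h
    rw [hS] at h
    rw [← el_co T g]
    generalize co T g = c at h ⊢
    obtain ⟨z0, z1⟩ := h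
    simp only [TF.el, z0, z1, H659.TF.x8_zero T.rel, one_mul, mul_one]
    exact mul_mem (mul_mem (mul_mem (mul_mem (mul_mem (mul_mem (X1_le_QA T (x1_mem T _)) (X2_le_QA T (x2_mem T _ _))) (X3_le_QA T (x3_mem T _))) (X4_le_QA T (x4_mem T _ _))) (X5_le_QA T (x5_mem T _))) (X6_le_QA T (x6_mem T _ _))) (X7_le_QA T (x7_mem T _))

theorem el_mem_QA {c : Cd K} : T.el c ∈ T.QA ↔ c.a8 = 0 ∧ c.b8 = 0 := by rw [mem_QA hK, co_el]

theorem QA_iff {g : U} : g ∈ T.QA ↔ ∃ t1 p2 u2 t3 p4 u4 t5 p6 u6 t7, g = T.x1 t1 * T.x2 p2 u2 * T.x3 t3 * T.x4 p4 u4 * T.x5 t5 * T.x6 p6 u6 * T.x7 t7 := by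
  constructor
  · intro h
    rw [mem_QA hK] at h
    have e := el_co T g
    generalize co T g = c at h e
    obtain ⟨z0, z1⟩ := h
    simp only [TF.el, z0, z1, H659.TF.x8_zero T.rel, one_mul, mul_one] at e
    exact ⟨_, _, _, _, _, _, _, _, _, _, e.symm⟩
  · rintro ⟨t1, p2, u2, t3, p4, u4, t5, p6, u6, t7, rfl⟩
    exact mul_mem (mul_mem (mul_mem (mul_mem (mul_mem (mul_mem (X1_le_QA T (x1_mem T _)) (X2_le_QA T (x2_mem T _ _))) (X3_le_QA T (x3_mem T _))) (X4_le_QA T (x4_mem T _ _))) (X5_le_QA T (x5_mem T _))) (X6_le_QA T (x6_mem T _ _))) (X7_le_QA T (x7_mem T _))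

theorem card_QA : Nat.card T.QA = (2 ^ (2 * m + 1)) ^ 10 := by
  refine card_of_mask hK T ![true, true, true, true, true, true, true, true, true, true, false, false] (by rfl) T.QA fun g => ?_
  rw [mem_QA hK]
  constructor
  · rintro ⟨z0, z1⟩ i hi
    fin_cases i <;> first | exact z0 | exact z1 | exact absurd hi (by decide)
  · intro h
    exact ⟨h 10 rfl, h 11 rfl⟩

theorem QA_normal : T.QA.Normal := by
  refine ⟨fun g hg x => ?_⟩
  have e : co T (x * g * x⁻¹ * x) = co T (x * g) := by rw [inv_mul_cancel_right]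
  rw [co_mul hK T _ x, co_mul hK T x g] at e
  rw [mem_QA hK] at hg ⊢
  generalize co T (x * g * x⁻¹) = h at e ⊢
  generalize co T x = y at e
  generalize co T g = c at e hg
  obtain ⟨z0, z1⟩ := hg
  have fa8 := congrArg Cd.a8 e
  rw [mul_a8, mul_a8] at fa8
  simp only [z0, z1, zero_mul, mul_zero, add_zero, zero_add, map_zero, pow_zero, ne_eq, OfNat.ofNat_ne_zero, not_false_eq_true, zero_pow, add_eq_right, add_eq_left, left_eq_add, right_eq_add] at fa8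
  have fb8 := congrArg Cd.b8 e
  rw [mul_b8, mul_b8] at fb8
  simp only [z0, z1, fa8, zero_mul, mul_zero, add_zero, zero_add, map_zero, pow_zero, ne_eq, OfNat.ofNat_ne_zero, not_false_eq_true, zero_pow, add_eq_right, add_eq_left, left_eq_add, right_eq_add] at fb8
  exact ⟨fa8, fb8⟩

/-! ### `QB` -/

theorem mem_QB {g : U} : g ∈ T.QB ↔ (co T g).a1 = 0 := by
  obtain ⟨S, hS⟩ := exists_sub hK T (fun c => c.a1 = 0) (rfl) (by
    rintro c d hc0 hd0
    refine ?_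
    · rw [mul_a1]
      simp only [hc0, hd0, zero_mul, mul_zero, add_zero, zero_add, map_zero, pow_zero, ne_eq, OfNat.ofNat_ne_zero, not_false_eq_true, zero_pow])
  rw [← hS]
  constructor
  · intro h
    have hle : T.QB ≤ S := by
      simp only [TF.QB, sup_le_iff, Subgroup.closure_le, TF.X2, TF.X3, TF.X4, TF.X5, TF.X6, TF.X7, TF.X8]
      refine ⟨⟨⟨⟨⟨⟨?_, ?_⟩, ?_⟩, ?_⟩, ?_⟩, ?_⟩, ?_⟩
      · rintro _ ⟨p, u, rfl⟩
        exact (hS _).2 (by rw [co_x2]; exact rfl)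
      · rintro _ ⟨t, rfl⟩
        exact (hS _).2 (by rw [co_x3]; exact rfl)
      · rintro _ ⟨p, u, rfl⟩
        exact (hS _).2 (by rw [co_x4]; exact rfl)
      · rintro _ ⟨t, rfl⟩
        exact (hS _).2 (by rw [co_x5]; exact rfl)
      · rintro _ ⟨p, u, rfl⟩
        exact (hS _).2 (by rw [co_x6]; exact rfl)
      · rintro _ ⟨t, rfl⟩
        exact (hS _).2 (by rw [co_x7]; exact rfl)
      · rintro _ ⟨p, u, rfl⟩
        exact (hS _).2 (by rw [co_x8]; exact rfl)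
    exact hle h
  · intro h
    rw [hS] at h
    rw [← el_co T g]
    generalize co T g = c at h ⊢
    have z0 := h
    simp only [TF.el, z0, H659.TF.x1_zero T.rel, one_mul, mul_one]
    exact mul_mem (mul_mem (mul_mem (mul_mem (mul_mem (mul_mem (X2_le_QB T (x2_mem T _ _)) (X3_le_QB T (x3_mem T _))) (X4_le_QB T (x4_mem T _ _))) (X5_le_QB T (x5_mem T _))) (X6_le_QB T (x6_mem T _ _))) (X7_le_QB T (x7_mem T _))) (X8_le_QB T (x8_mem T _ _))

theorem el_mem_QB {c : Cd K} : T.el c ∈ T.QB ↔ c.a1 = 0 := by rw [mem_QB hK, co_el]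

theorem QB_iff {g : U} : g ∈ T.QB ↔ ∃ p2 u2 t3 p4 u4 t5 p6 u6 t7 p8 u8, g = T.x2 p2 u2 * T.x3 t3 * T.x4 p4 u4 * T.x5 t5 * T.x6 p6 u6 * T.x7 t7 * T.x8 p8 u8 := by
  constructor
  · intro h
    rw [mem_QB hK] at h
    have e := el_co T g
    generalize co T g = c at h e
    have z0 := h
    simp only [TF.el, z0, H659.TF.x1_zero T.rel, one_mul, mul_one] at e
    exact ⟨_, _, _, _, _, _, _, _, _, _, _, e.symm⟩
  · rintro ⟨p2, u2, t3, p4, u4, t5, p6, u6, t7, p8, u8, rfl⟩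
    exact mul_mem (mul_mem (mul_mem (mul_mem (mul_mem (mul_mem (X2_le_QB T (x2_mem T _ _)) (X3_le_QB T (x3_mem T _))) (X4_le_QB T (x4_mem T _ _))) (X5_le_QB T (x5_mem T _))) (X6_le_QB T (x6_mem T _ _))) (X7_le_QB T (x7_mem T _))) (X8_le_QB T (x8_mem T _ _))

theorem card_QB : Nat.card T.QB = (2 ^ (2 * m + 1)) ^ 11 := by
  refine card_of_mask hK T ![false, true, true, true, true, true, true, true, true, true, true, true] (by rfl) T.QB fun g => ?_
  rw [mem_QB hK]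
  constructor
  · rintro z0 i hi
    fin_cases i <;> first | exact z0 | exact absurd hi (by decide)
  · intro h
    exact h 0 rfl

theorem QB_normal : T.QB.Normal := by
  refine ⟨fun g hg x => ?_⟩
  have e : co T (x * g * x⁻¹ * x) = co T (x * g) := by rw [inv_mul_cancel_right]
  rw [co_mul hK T _ x, co_mul hK T x g] at e
  rw [mem_QB hK] at hg ⊢
  generalize co T (x * g * x⁻¹) = h at e ⊢
  generalize co T x = y at e
  generalize co T g = c at e hg
  have z0 := hg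
  have fa1 := congrArg Cd.a1 e
  rw [mul_a1, mul_a1] at fa1
  simp only [z0, zero_mul, mul_zero, add_zero, zero_add, map_zero, pow_zero, ne_eq, OfNat.ofNat_ne_zero, not_false_eq_true, zero_pow, add_eq_right, add_eq_left, left_eq_add, right_eq_add] at fa1
  exact fa1

/-! ### `N3` -/

theorem mem_N3 {g : U} : g ∈ T.N3 ↔ (co T g).a1 = 0 ∧ (co T g).a2 = 0 ∧ (co T g).a8 = 0 := by
  obtain ⟨S, hS⟩ := exists_sub hK T (fun c => c.a1 = 0 ∧ c.a2 = 0 ∧ c.a8 = 0) (⟨rfl, rfl, rfl⟩) (by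
    rintro c d ⟨hc0, hc1, hc2⟩ ⟨hd0, hd1, hd2⟩
    refine ⟨?_, ?_, ?_⟩
    · rw [mul_a1]
      simp only [hc0, hc1, hc2, hd0, hd1, hd2, zero_mul, mul_zero, add_zero, zero_add, map_zero, pow_zero, ne_eq, OfNat.ofNat_ne_zero, not_false_eq_true, zero_pow]
    · rw [mul_a2]
      simp only [hc0, hc1, hc2, hd0, hd1, hd2, zero_mul, mul_zero, add_zero, zero_add, map_zero, pow_zero, ne_eq, OfNat.ofNat_ne_zero, not_false_eq_true, zero_pow]
    · rw [mul_a8]
      simp only [hc0, hc1, hc2, hd0, hd1, hd2, zero_mul, mul_zero, add_zero, zero_add, map_zero, pow_zero, ne_eq, OfNat.ofNat_ne_zero, not_false_eq_true, zero_pow])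
  rw [← hS]
  constructor
  · intro h
    have hle : T.N3 ≤ S := by
      simp only [TF.N3, sup_le_iff, Subgroup.closure_le, TF.Z2, TF.X3, TF.X4, TF.X5, TF.X6, TF.X7, TF.Z8]
      refine ⟨⟨⟨⟨⟨⟨?_, ?_⟩, ?_⟩, ?_⟩, ?_⟩, ?_⟩, ?_⟩
      · rintro _ ⟨u, rfl⟩
        exact (hS _).2 (by rw [co_x2]; exact ⟨rfl, rfl, rfl⟩)
      · rintro _ ⟨t, rfl⟩
        exact (hS _).2 (by rw [co_x3]; exact ⟨rfl, rfl, rfl⟩)
      · rintro _ ⟨p, u, rfl⟩
        exact (hS _).2 (by rw [co_x4]; exact ⟨rfl, rfl, rfl⟩)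
      · rintro _ ⟨t, rfl⟩
        exact (hS _).2 (by rw [co_x5]; exact ⟨rfl, rfl, rfl⟩)
      · rintro _ ⟨p, u, rfl⟩
        exact (hS _).2 (by rw [co_x6]; exact ⟨rfl, rfl, rfl⟩)
      · rintro _ ⟨t, rfl⟩
        exact (hS _).2 (by rw [co_x7]; exact ⟨rfl, rfl, rfl⟩)
      · rintro _ ⟨u, rfl⟩
        exact (hS _).2 (by rw [co_x8]; exact ⟨rfl, rfl, rfl⟩)
    exact hle h
  · intro h
    rw [hS] at h
    rw [← el_co T g]
    generalize co T g = c at h ⊢
    obtain ⟨z0, z1, z2⟩ := h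
    simp only [TF.el, z0, z1, z2, H659.TF.x1_zero T.rel, one_mul, mul_one]
    exact mul_mem (mul_mem (mul_mem (mul_mem (mul_mem (mul_mem (Z2_le_N3 T (x2_mem_Z T _)) (X3_le_N3 T (x3_mem T _))) (X4_le_N3 T (x4_mem T _ _))) (X5_le_N3 T (x5_mem T _))) (X6_le_N3 T (x6_mem T _ _))) (X7_le_N3 T (x7_mem T _))) (Z8_le_N3 T (x8_mem_Z T _))

theorem el_mem_N3 {c : Cd K} : T.el c ∈ T.N3 ↔ c.a1 = 0 ∧ c.a2 = 0 ∧ c.a8 = 0 := by rw [mem_N3 hK, co_el]

theorem N3_iff {g : U} : g ∈ T.N3 ↔ ∃ u2 t3 p4 u4 t5 p6 u6 t7 u8, g = T.x2 0 u2 * T.x3 t3 * T.x4 p4 u4 * T.x5 t5 * T.x6 p6 u6 * T.x7 t7 * T.x8 0 u8 := by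
  constructor
  · intro h
    rw [mem_N3 hK] at h
    have e := el_co T g
    generalize co T g = c at h e
    obtain ⟨z0, z1, z2⟩ := h
    simp only [TF.el, z0, z1, z2, H659.TF.x1_zero T.rel, one_mul, mul_one] at e
    exact ⟨_, _, _, _, _, _, _, _, _, e.symm⟩
  · rintro ⟨u2, t3, p4, u4, t5, p6, u6, t7, u8, rfl⟩
    exact mul_mem (mul_mem (mul_mem (mul_mem (mul_mem (mul_mem (Z2_le_N3 T (x2_mem_Z T _)) (X3_le_N3 T (x3_mem T _))) (X4_le_N3 T (x4_mem T _ _))) (X5_le_N3 T (x5_mem T _))) (X6_le_N3 T (x6_mem T _ _))) (X7_le_N3 T (x7_mem T _))) (Z8_le_N3 T (x8_mem_Z T _))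

theorem card_N3 : Nat.card T.N3 = (2 ^ (2 * m + 1)) ^ 9 := by
  refine card_of_mask hK T ![false, false, true, true, true, true, true, true, true, true, false, true] (by rfl) T.N3 fun g => ?_
  rw [mem_N3 hK]
  constructor
  · rintro ⟨z0, z1, z2⟩ i hi
    fin_cases i <;> first | exact z0 | exact z1 | exact z2 | exact absurd hi (by decide)
  · intro h
    exact ⟨h 0 rfl, h 1 rfl, h 10 rfl⟩

theorem N3_normal : T.N3.Normal := by
  refine ⟨fun g hg x => ?_⟩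
  have e : co T (x * g * x⁻¹ * x) = co T (x * g) := by rw [inv_mul_cancel_right]
  rw [co_mul hK T _ x, co_mul hK T x g] at e
  rw [mem_N3 hK] at hg ⊢
  generalize co T (x * g * x⁻¹) = h at e ⊢
  generalize co T x = y at e
  generalize co T g = c at e hg
  obtain ⟨z0, z1, z2⟩ := hg
  have fa1 := congrArg Cd.a1 e
  rw [mul_a1, mul_a1] at fa1
  simp only [z0, z1, z2, zero_mul, mul_zero, add_zero, zero_add, map_zero, pow_zero, ne_eq, OfNat.ofNat_ne_zero, not_false_eq_true, zero_pow, add_eq_right, add_eq_left, left_eq_add, right_eq_add] at fa1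
  have fa8 := congrArg Cd.a8 e
  rw [mul_a8, mul_a8] at fa8
  simp only [z0, z1, z2, fa1, zero_mul, mul_zero, add_zero, zero_add, map_zero, pow_zero, ne_eq, OfNat.ofNat_ne_zero, not_false_eq_true, zero_pow, add_eq_right, add_eq_left, left_eq_add, right_eq_add] at fa8
  have fa2 := congrArg Cd.a2 e
  rw [mul_a2, mul_a2] at fa2
  simp only [z0, z1, z2, fa1, fa8, zero_mul, mul_zero, add_zero, zero_add, map_zero, pow_zero, ne_eq, OfNat.ofNat_ne_zero, not_false_eq_true, zero_pow, add_eq_right, add_eq_left, left_eq_add, right_eq_add] at fa2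
  exact ⟨fa1, fa2, fa8⟩

end Cfsg.Agent.H752.TF
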